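import Cfsg.Agent.Lib.Fus.D4Classes.LeafData
import Cfsg.Agent.Lib.Fus.D4Classes.RepData

/-! The leaves pass their checks. -/

set_option autoImplicit false
set_option maxRecDepth 100000

namespace Cfsg.Agent.Fus.D4Classes

theorem chkLeaf_all : (List.range 753).all (fun i => chkWord leaves i && chkLeaf leaves repRoots i) = true := by
  decide +kernel

theorem leaves_length : leaves.length = 753 := by decide +kernel

end Cfsg.Agent.Fus.D4Classes
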