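import Cfsg.Agent.Lib.Fus.D4Classes.TreeData
import Cfsg.Agent.Lib.Fus.D4Classes.LeafData

/-! The tree passes its check. -/

set_option autoImplicit false
set_option maxRecDepth 100000

namespace Cfsg.Agent.Fus.D4Classes

theorem chkTree_all : chkTree leaves tree 0 [] = true := by decide +kernel

end Cfsg.Agent.Fus.D4Classes
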