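import Cfsg.Agent.Lib.Lie.Chev.IsoD4
import Cfsg.Agent.Lib.Spor.Cos.Tree

/-!
Matrices of size eight over the field with three elements, coded by two planes of bits, and the
words in root elements of `Ω⁺₈(3)`.
-/

set_option autoImplicit false
set_option maxRecDepth 20000

namespace Cfsg.Agent.Fus.D4Classes

open Cfsg Cfsg.Lie Matrix Cfsg.Agent.Classical Cfsg.Agent.Classical.OrthAut Cfsg.Agent.Lie.Chev
open Cfsg.Agent.Spor.Cos (force force_eq)

/-- The index set. -/
abbrev I8 : Type := Fin 4 ⊕ Fin 4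

/-- The field. -/
abbrev F3 : Type := ZMod 3

instance : Fact (Nat.Prime 3) := ⟨Nat.prime_three⟩

/-- The orthogonal group. -/
abbrev OG : Type := ↥(isometryGroup F3 ⇑(qfPlus 4 F3))

/-- The position of an index. -/
def pos : I8 → ℕ := Sum.elim (fun i => i.val) (fun i => 4 + i.val)

theorem pos_lt : ∀ i : I8, pos i < 8 := by decide

theorem pos_inj : Function.Injective pos := by decide

/-- The value of two bits. -/
def cell : Bool → Bool → F3
  | true, _ => 1
  | false, true => 2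
  | false, false => 0

/-- The matrix of two planes. -/
def dec (a b : ℕ) : Matrix I8 I8 F3 :=
  Matrix.of fun i j => cell (a.testBit (8 * pos i + pos j)) (b.testBit (8 * pos i + pos j))

/-- The bits of `x` outside `y`. -/
def andNot (x y : ℕ) : ℕ := x ^^^ (x &&& y)

theorem testBit_andNot (x y k : ℕ) :
    (andNot x y).testBit k = (x.testBit k && !y.testBit k) := by
  simp only [andNot, Nat.testBit_xor, Nat.testBit_and]
  cases x.testBit k <;> cases y.testBit k <;> rfl

/-- The ones of a sum. -/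
def addA (a₁ b₁ a₂ b₂ : ℕ) : ℕ :=
  andNot a₁ (a₂ ||| b₂) ||| andNot a₂ (a₁ ||| b₁) ||| (b₁ &&& b₂)

theorem testBit_addA (a₁ b₁ a₂ b₂ k : ℕ) : (addA a₁ b₁ a₂ b₂).testBit k =
    ((a₁.testBit k && !(a₂.testBit k || b₂.testBit k)) ||
      (a₂.testBit k && !(a₁.testBit k || b₁.testBit k)) || (b₁.testBit k && b₂.testBit k)) := by
  simp only [addA, Nat.testBit_lor, Nat.testBit_and, testBit_andNot]

theorem cell_add : ∀ x₁ y₁ x₂ y₂ : Bool, ¬(x₁ = true ∧ y₁ = true) → ¬(x₂ = true ∧ y₂ = true) →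
    cell ((x₁ && !(x₂ || y₂)) || (x₂ && !(x₁ || y₁)) || (y₁ && y₂))
      ((y₁ && !(y₂ || x₂)) || (y₂ && !(y₁ || x₁)) || (x₁ && x₂)) = cell x₁ y₁ + cell x₂ y₂ ∧
    ¬(((x₁ && !(x₂ || y₂)) || (x₂ && !(x₁ || y₁)) || (y₁ && y₂)) = true ∧
      ((y₁ && !(y₂ || x₂)) || (y₂ && !(y₁ || x₁)) || (x₁ && x₂)) = true) := by decide

theorem cell_neg : ∀ x y : Bool, ¬(x = true ∧ y = true) → cell y x = -cell x y := by decide

/-- No entry has both bits. -/
def Ok (a b : ℕ) : Prop := ∀ k, ¬(a.testBit k = true ∧ b.testBit k = true)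

/-- Row `j` of a plane at row `i`. -/
def rowTo (a i j : ℕ) : ℕ := ((a >>> (8 * j)) &&& 255) <<< (8 * i)

theorem testBit_rowTo (a i j k l : ℕ) (hl : l < 8) :
    (rowTo a i j).testBit (8 * k + l) = (decide (k = i) && a.testBit (8 * j + l)) := by
  rw [rowTo, Nat.testBit_shiftLeft, Nat.testBit_and, Nat.testBit_shiftRight,
    show (255 : ℕ) = 2 ^ 8 - 1 by norm_num, Nat.testBit_two_pow_sub_one]
  by_cases h : k = i
  · subst h
    simp [show 8 * k + l - 8 * k = l by omega, hl]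
  · rw [decide_eq_false h, Bool.false_and]
    rcases Nat.lt_or_gt_of_ne h with h' | h'
    · simp [show ¬(8 * i ≤ 8 * k + l) by omega]
    · simp [show ¬(8 * k + l - 8 * i < 8) by omega]

theorem Ok.rowTo {a b : ℕ} (h : Ok a b) (i j : ℕ) :
    Ok (D4Classes.rowTo a i j) (D4Classes.rowTo b i j) := by
  intro k
  simp only [D4Classes.rowTo, Nat.testBit_shiftLeft, Nat.testBit_and, Nat.testBit_shiftRight,
    Bool.and_eq_true]
  rintro ⟨⟨-, h1, -⟩, -, h2, -⟩
  exact h _ ⟨h1, h2⟩

/-- Two planes in one number. -/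
def pack (a b : ℕ) : ℕ := a + (b <<< 64)

/-- The first plane. -/
def planeA (m : ℕ) : ℕ := m &&& 18446744073709551615

/-- The second plane. -/
def planeB (m : ℕ) : ℕ := m >>> 64

theorem planeA_eq (x : ℕ) : planeA x = x % 2 ^ 64 := by
  unfold planeA
  rw [← Nat.and_two_pow_sub_one_eq_mod x 64]

theorem pack_eq (a b : ℕ) : pack a b = a + b * 18446744073709551616 := by
  unfold pack
  rw [Nat.shiftLeft_eq]

theorem planeA_pack {a b : ℕ} (ha : a < 18446744073709551616) : planeA (pack a b) = a := by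
  rw [(planeA_eq _).trans (by norm_num : pack a b % 2 ^ 64 = pack a b % 18446744073709551616), pack_eq,
    Nat.add_mul_mod_self_right, Nat.mod_eq_of_lt ha]

theorem planeB_pack {a b : ℕ} (ha : a < 18446744073709551616) : planeB (pack a b) = b := by
  unfold planeB
  rw [pack_eq, Nat.shiftRight_eq_div_pow, show (2 : ℕ) ^ 64 = 18446744073709551616 by norm_num,
    Nat.add_mul_div_right _ _ (Nat.succ_pos _), Nat.div_eq_of_lt ha, zero_add]

/-- Add row `j` to row `i`, negated when `s` holds. -/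
def rowAdd (i j : ℕ) (s : Bool) (m : ℕ) : ℕ :=
  force (planeA m) fun a => force (planeB m) fun b =>
    force (rowTo a i j) fun x => force (rowTo b i j) fun y =>
      Bool.rec (pack (addA a b x y) (addA b a y x)) (pack (addA a b y x) (addA b a x y)) s

/-- A code whose planes fit. -/
def Fit (m : ℕ) : Prop := planeA m < 2 ^ 64 ∧ planeB m < 2 ^ 64 ∧ Ok (planeA m) (planeB m)

/-- The matrix of a code. -/
def mat (m : ℕ) : Matrix I8 I8 F3 := dec (planeA m) (planeB m)

/-- The transvection adding row `j` to row `i`. -/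
def trans (i j : I8) (s : Bool) : Matrix I8 I8 F3 :=
  1 + Matrix.single i j (if s then -1 else 1)

theorem rowTo_lt {a i j : ℕ} (hi : i < 8) : rowTo a i j < 2 ^ 64 := by
  rw [rowTo, Nat.shiftLeft_eq]
  have h1 : (a >>> (8 * j)) &&& 255 < 2 ^ 8 := Nat.and_lt_two_pow _ (by norm_num)
  calc ((a >>> (8 * j)) &&& 255) * 2 ^ (8 * i) < 2 ^ 8 * 2 ^ (8 * i) :=
        Nat.mul_lt_mul_of_pos_right h1 (by positivity)
    _ ≤ 2 ^ 64 := by rw [← pow_add]; exact Nat.pow_le_pow_right (by norm_num) (by omega)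

theorem addA_lt {n a₁ b₁ a₂ b₂ : ℕ} (h1 : a₁ < 2 ^ n) (h3 : a₂ < 2 ^ n) (h4 : b₂ < 2 ^ n) :
    addA a₁ b₁ a₂ b₂ < 2 ^ n := by
  refine Nat.lt_pow_two_of_testBit _ fun k hk => ?_
  rw [testBit_addA, Nat.testBit_lt_two_pow (h1.trans_le (Nat.pow_le_pow_right two_pos hk)),
    Nat.testBit_lt_two_pow (h3.trans_le (Nat.pow_le_pow_right two_pos hk)),
    Nat.testBit_lt_two_pow (h4.trans_le (Nat.pow_le_pow_right two_pos hk))]
  simp

theorem dec_addA {a b x y : ℕ} (h : Ok a b) (h' : Ok x y) :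
    dec (addA a b x y) (addA b a y x) = dec a b + dec x y ∧ Ok (addA a b x y) (addA b a y x) := by
  refine ⟨?_, fun k => ?_⟩
  · ext r t
    simp only [dec, Matrix.of_apply, Matrix.add_apply, testBit_addA]
    exact (cell_add _ _ _ _ (h _) (h' _)).1
  · simp only [testBit_addA]
    exact (cell_add _ _ _ _ (h k) (h' k)).2

theorem pack_spec {a b : ℕ} (ha : a < 2 ^ 64) (hb : b < 2 ^ 64) (h : Ok a b) :
    Fit (pack a b) ∧ mat (pack a b) = dec a b := by
  have ha' : a < 18446744073709551616 := lt_of_lt_of_eq ha (by norm_num)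
  unfold Fit mat
  rw [planeA_pack ha', planeB_pack ha']
  exact ⟨⟨ha, hb, h⟩, rfl⟩

theorem dec_rowTo (a b : ℕ) (i j : I8) :
    dec (rowTo a (pos i) (pos j)) (rowTo b (pos i) (pos j)) = Matrix.single i j (1 : F3) * dec a b := by
  ext r t
  simp only [dec, Matrix.of_apply, testBit_rowTo _ _ _ _ _ (pos_lt t)]
  by_cases hr : r = i
  · subst hr
    simp
  · rw [Matrix.single_mul_apply_of_ne _ _ _ _ _ hr]
    have : ¬ pos r = pos i := fun h => hr (pos_inj h)
    simp only [this, decide_false, Bool.false_and]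
    rfl

theorem rowAdd_spec {m : ℕ} (hm : Fit m) (i j : I8) (s : Bool) :
    Fit (rowAdd (pos i) (pos j) s m) ∧ mat (rowAdd (pos i) (pos j) s m) = trans i j s * mat m := by
  obtain ⟨ha, hb, hok⟩ := hm
  have hrow := dec_rowTo (planeA m) (planeB m) i j
  have hxy := hok.rowTo (pos i) (pos j)
  have hx := rowTo_lt (a := planeA m) (j := pos j) (pos_lt i)
  have hy := rowTo_lt (a := planeB m) (j := pos j) (pos_lt i)
  have hneg : dec (rowTo (planeB m) (pos i) (pos j)) (rowTo (planeA m) (pos i) (pos j)) =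
      -dec (rowTo (planeA m) (pos i) (pos j)) (rowTo (planeB m) (pos i) (pos j)) := by
    ext r t
    simp only [dec, Matrix.of_apply, Matrix.neg_apply]
    exact cell_neg _ _ (hxy _)
  have hneg' : Ok (rowTo (planeB m) (pos i) (pos j)) (rowTo (planeA m) (pos i) (pos j)) :=
    fun k h => hxy k ⟨h.2, h.1⟩
  simp only [rowAdd, force_eq]
  cases s
  · obtain ⟨e, hk⟩ := dec_addA hok hxy
    obtain ⟨h1, h2⟩ := pack_spec (addA_lt ha hx hy) (addA_lt hb hy hx) hk
    refine ⟨h1, h2.trans ?_⟩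
    rw [e, hrow]
    show _ = (1 + Matrix.single i j (1 : F3)) * dec (planeA m) (planeB m)
    rw [Matrix.add_mul, Matrix.one_mul]
  · obtain ⟨e, hk⟩ := dec_addA hok hneg'
    obtain ⟨h1, h2⟩ := pack_spec (addA_lt ha hy hx) (addA_lt hb hx hy) hk
    refine ⟨h1, h2.trans ?_⟩
    rw [e, hneg, hrow]
    show _ = (1 + Matrix.single i j (-1 : F3)) * dec (planeA m) (planeB m)
    rw [Matrix.add_mul, Matrix.one_mul, ← Matrix.single_neg, Matrix.neg_mul]

end Cfsg.Agent.Fus.D4Classes
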