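import Cfsg.Agent.Lib.Fus.D4Classes.Words
import Cfsg.Agent.Lib.Lie.Chev.OutD4
import Cfsg.Agent.Lib.Classical.OrthPOmegaCard

/-!
The graph automorphisms of `PΩ⁺₈(3)` permute the simple root elements.
-/

set_option autoImplicit false
set_option maxRecDepth 20000

namespace Cfsg.Agent.Fus.D4Classes

open Cfsg Cfsg.Lie Matrix Cfsg.Agent.Classical Cfsg.Agent.Classical.OrthAut Cfsg.Agent.Lie.Chev

theorem exists_iso_root : ∃ e : ↥(chevD4.group F3) ≃* P8,
    ∀ r < 24, e (certFullD4.xG r (1 : F3)) = gP r := by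
  have hN : checkNbr certFullD4.T = true := by decide +kernel
  set A := certFullD4.stCoverData F3
  let ψ : chevD4.SteinbergCover F3 →* ↥(Omega F3 ⇑(qfPlus 4 F3)) :=
    (IsoD4.coverHom F3).codRestrict _ fun x => IsoD4.range_eq_omega F3 ▸ ⟨x, rfl⟩
  have hψ : Function.Surjective ψ := fun y => by
    obtain ⟨x, hx⟩ : (y : OG) ∈ (IsoD4.coverHom F3).range := (IsoD4.range_eq_omega F3).symm ▸ y.2
    exact ⟨x, Subtype.ext hx⟩
  let φ : chevD4.SteinbergCover F3 →* P8 := (QuotientGroup.mk' _).comp ψ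
  have hφ : Function.Surjective φ := (QuotientGroup.mk'_surjective _).comp hψ
  let θ' : chevD4.SteinbergCover F3 →* ↥(chevD4.group F3) := A.θ.codRestrict _ A.θ_mem_group
  have hθ : Function.Surjective θ' := fun g => by
    obtain ⟨x, hx⟩ := A.θ_surj g.2
    exact ⟨x, Subtype.ext hx⟩
  have hker : θ'.ker ≤ φ.ker := fun z hz => by
    have hz' : z ∈ Subgroup.center _ :=
      (A.ker_le hN).trans inf_le_right (congrArg Subtype.val (MonoidHom.mem_ker.1 hz))
    rw [MonoidHom.mem_ker]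
    refine (QuotientGroup.eq_one_iff _).2 (Subgroup.mem_center_iff.2 fun y => ?_)
    obtain ⟨x, rfl⟩ := hψ y
    rw [← map_mul, ← map_mul, Subgroup.mem_center_iff.1 hz' x]
  let f : ↥(chevD4.group F3) →* P8 := θ'.liftOfSurjective hθ ⟨φ, hker⟩
  have hf : ∀ x, f (θ' x) = φ x := fun x => MonoidHom.liftOfRightInverse_comp_apply _ _ _ ⟨φ, hker⟩ x
  have hfs : Function.Surjective f := fun y => by
    obtain ⟨x, rfl⟩ := hφ y
    exact ⟨θ' x, hf x⟩
  have hX : ∀ r < 24, f (certFullD4.xG r (1 : F3)) = gP r := fun r hr => by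
    have hr' : r < chevD4.nroots := by rw [IsoD4.nroots_D4]; exact hr
    have e1 : θ' (A.X r 1) = certFullD4.xG r (1 : F3) := Subtype.ext (A.θX r hr' 1)
    rw [← e1, hf]
    refine congrArg (QuotientGroup.mk' _) (Subtype.ext ?_)
    show IsoD4.coverHom F3 (A.X r 1) = g r
    rw [g, if_pos hr]
    exact IsoD4.coverHom_X F3 hr' 1
  obtain ⟨hsimple, -⟩ := certFullD4.simple (F := F3) connD4 (certFullD4.perfect perfectD4)
  refine ⟨MulEquiv.ofBijective f ⟨(MonoidHom.ker_eq_bot_iff f).1 ?_, hfs⟩, hX⟩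
  refine (hsimple.eq_bot_or_eq_top_of_normal f.ker inferInstance).resolve_right fun htop => ?_
  have h1 : gP 23 = 1 := by rw [← hX 23 (by norm_num), ← MonoidHom.mem_ker, htop]; trivial
  have h2 : Nat.beq (code [23]) (code []) = false ∧ (planeA (code [23]) ||| planeB (code [23])).testBit 1 = false :=
    ⟨by decide +kernel, by decide +kernel⟩
  have hm := (code_spec [23] rfl).2
  have he : QuotientGroup.mk' (Subgroup.center (Omega F3 ⇑(qfPlus 4 F3))) ⟨g 23, g_mem 23⟩ = 1 := h1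
  have hc := (QuotientGroup.eq_one_iff _).1 he
  rcases center_omega_scalar (nondegenerate_qfPlus 4) (tri_qfPlus (by norm_num)) (by decide) hc with e | e
  all_goals
    have e' : mat (code [23]) = ogVal (g 23) := by rw [hm, ev_cons, ev_nil, mul_one]
    rw [show ogVal (g 23) = omVal (⟨g 23, g_mem 23⟩ : Omega F3 ⇑(qfPlus 4 F3)) from rfl, e] at e'
    revert e'
    decide +kernel

/-- The isomorphism with the Chevalley group. -/
noncomputable def eD4 : ↥(chevD4.group F3) ≃* P8 := exists_iso_root.choose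

/-- The graph automorphisms. -/
noncomputable def sig : Equiv.Perm (Fin 3) →* MulAut P8 :=
  MonoidHom.mk' (fun π => (eD4.symm.trans (OutD4.legHom F3 π)).trans eD4) fun π π' => MulEquiv.ext fun x => by
    simp only [map_mul, MulEquiv.trans_apply, MulAut.mul_apply, MulEquiv.symm_apply_apply]

/-- The roots of the simple letters. -/
def L8 : List ℕ := [18, 14, 13, 12, 5, 9, 10, 11]

/-- The letter moved by a permutation of the legs. -/
def movePos (π : Equiv.Perm (Fin 3)) (q : ℕ) : ℕ :=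
  if h : q % 4 < chevD4.rank then (q / 4) * 4 + (OutD4.extPerm π ⟨q % 4, h⟩).val else q

theorem L8_facts : ∀ q : Fin 8,
    (q.1 < 4 → L8.getD q.1 0 = chevD4.simple (q.1 % 4)) ∧
    (4 ≤ q.1 → L8.getD q.1 0 = chevD4.neg (chevD4.simple (q.1 % 4))) ∧ L8.getD q.1 0 < 24 := by
  decide +kernel

theorem sig_letter (π : Equiv.Perm (Fin 3)) {q : ℕ} (hq : q < 8) :
    sig π (gP (L8.getD q 0)) = gP (L8.getD (movePos π q) 0) ∧ movePos π q < 8 := by
  have hr : chevD4.rank = 4 := rfl
  have h : q % 4 < chevD4.rank := by omega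
  have hm : movePos π q = (q / 4) * 4 + (OutD4.extPerm π ⟨q % 4, h⟩).val := dif_pos h
  have hlt : (OutD4.extPerm π ⟨q % 4, h⟩).val < 4 := (OutD4.extPerm π ⟨q % 4, h⟩).isLt
  have hm8 : movePos π q < 8 := by omega
  refine ⟨?_, hm8⟩
  obtain ⟨f1, f2, f3⟩ := L8_facts ⟨q, hq⟩
  have h' : movePos π q % 4 < chevD4.rank := by omega
  obtain ⟨g1, g2, g3⟩ := L8_facts ⟨movePos π q, hm8⟩
  have hpi : (⟨movePos π q % 4, h'⟩ : Fin chevD4.rank) = OutD4.extPerm π ⟨q % 4, h⟩ :=
    Fin.ext (show movePos π q % 4 = _ by omega)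
  have he := exists_iso_root.choose_spec
  rw [← he _ f3, ← he _ g3]
  show eD4 (OutD4.legHom F3 π (eD4.symm (eD4 _))) = eD4 _
  rw [MulEquiv.symm_apply_apply]
  refine congrArg eD4 ?_
  have hg := certFullD4.gaut_xG (OutD4.legPerm (F := F3) π) ⟨q % 4, h⟩ 1
  simp only [graphExpD4 _ _ _ (Fin.is_lt _), one_pow] at hg
  have hp : ((OutD4.legPerm (F := F3) π).1 ⟨q % 4, h⟩ : Fin chevD4.rank) = OutD4.extPerm π ⟨q % 4, h⟩ := rfl
  rw [hp, ← hpi] at hg
  rcases Nat.lt_or_ge q 4 with hq4 | hq4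
  · rw [f1 hq4, g1 (show movePos π q < 4 by omega)]
    exact hg.1
  · rw [f2 hq4, g2 (show 4 ≤ movePos π q by omega)]
    exact hg.2

/-- A word in simple letters, moved. -/
def moveWord (π : Equiv.Perm (Fin 3)) (w : List ℕ) : List ℕ :=
  w.map fun q => L8.getD (movePos π q) 0

theorem sig_evP (π : Equiv.Perm (Fin 3)) : ∀ w : List ℕ, (∀ q ∈ w, q < 8) →
    sig π (evP (w.map fun q => L8.getD q 0)) = evP (moveWord π w)
  | [], _ => map_one _
  | q :: w, h => by
    have e := sig_evP π w fun t ht => h t (List.mem_cons_of_mem _ ht)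
    simp only [moveWord, evP, List.map_cons, List.prod_cons] at e ⊢
    rw [map_mul, (sig_letter π (h q (List.mem_cons_self ..))).1, e]

end Cfsg.Agent.Fus.D4Classes
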