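import Cfsg.Agent.Lib.Fus.D4Classes.Sylow
import Cfsg.Agent.Lib.Fus.D4Classes.Iso
import Cfsg.Agent.Lib.Fus.D4Classes.CountData
import Cfsg.Agent.Lib.Fus.D4Classes.RepData

/-!
Numbers of fixed vectors with a given value of the form, separating thirteen subgroups.
-/

set_option autoImplicit false
set_option maxRecDepth 100000
set_option maxHeartbeats 4000000

namespace Cfsg.Agent.Fus.D4Classes

open Cfsg Matrix Cfsg.Agent.Classical Cfsg.Agent.Classical.OrthAut

/-- The space. -/
abbrev V8 : Type := I8 → F3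

/-- The stabiliser of a vector up to sign in `Ω`. -/
noncomputable def pmStab (v : V8) : Subgroup ↥(Omega F3 ⇑(qfPlus 4 F3)) where
  carrier := {ω | omVal ω *ᵥ v = v ∨ omVal ω *ᵥ v = -v}
  one_mem' := Or.inl (Matrix.one_mulVec v)
  mul_mem' := by
    intro a b ha hb
    have e : omVal (a * b) *ᵥ v = omVal a *ᵥ (omVal b *ᵥ v) := (Matrix.mulVec_mulVec _ _ _).symm
    simp only [Set.mem_ofPred_eq] at ha hb ⊢
    rw [e]
    rcases ha with ha | ha <;> rcases hb with hb | hb <;> simp [hb, ha, Matrix.mulVec_neg]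
  inv_mem' := by
    intro a ha
    have e : omVal a⁻¹ *ᵥ (omVal a *ᵥ v) = v := by
      rw [Matrix.mulVec_mulVec, show omVal a⁻¹ * omVal a = omVal (a⁻¹ * a) from rfl, inv_mul_cancel]
      exact Matrix.one_mulVec v
    simp only [Set.mem_ofPred_eq] at ha ⊢
    rcases ha with ha | ha <;> rw [ha] at e
    · exact Or.inl e
    · rw [Matrix.mulVec_neg, neg_eq_iff_eq_neg] at e
      exact Or.inr e

/-- The stabiliser of a vector up to sign in the simple group. -/
noncomputable def stabP (v : V8) : Subgroup P8 := (pmStab v).map (QuotientGroup.mk' _)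

theorem mem_stabP (v : V8) (ω : ↥(Omega F3 ⇑(qfPlus 4 F3))) :
    QuotientGroup.mk' _ ω ∈ stabP v ↔ omVal ω *ᵥ v = v ∨ omVal ω *ᵥ v = -v := by
  refine ⟨fun h => ?_, fun h => ⟨ω, h, rfl⟩⟩
  obtain ⟨ω', h', e⟩ := h
  have hz := QuotientGroup.eq.1 e
  have hm : ω'⁻¹ * ω ∈ pmStab v := by
    rcases center_omega_scalar (nondegenerate_qfPlus 4) (tri_qfPlus (by norm_num)) (by decide) hz with h | h
    · exact Or.inl (by rw [h, Matrix.one_mulVec])
    · exact Or.inr (by rw [h, Matrix.neg_mulVec, Matrix.one_mulVec])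
  have := mul_mem h' hm
  rwa [mul_inv_cancel_left] at this

/-- The number of vectors with a value, stabilised up to sign. -/
noncomputable def count (a : F3) (X : Subgroup P8) : ℕ :=
  Nat.card {v : V8 // qfPlus 4 F3 v = a ∧ X ≤ stabP v}

theorem count_conj (a : F3) (X : Subgroup P8) (z : P8) :
    count a (X.map (MulAut.conj z).toMonoidHom) = count a X := by
  obtain ⟨ω, rfl⟩ := QuotientGroup.mk'_surjective _ z
  set M := omVal ω
  set M' := omVal ω⁻¹
  have h1 : ∀ v : V8, M' *ᵥ (M *ᵥ v) = v := fun v => by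
    rw [Matrix.mulVec_mulVec, show M' * M = omVal (ω⁻¹ * ω) from rfl, inv_mul_cancel]
    exact Matrix.one_mulVec v
  have h2 : ∀ v : V8, M *ᵥ (M' *ᵥ v) = v := fun v => by
    rw [Matrix.mulVec_mulVec, show M * M' = omVal (ω * ω⁻¹) from rfl, mul_inv_cancel]
    exact Matrix.one_mulVec v
  let e : V8 ≃ V8 := ⟨fun v => M *ᵥ v, fun v => M' *ᵥ v, h1, h2⟩
  refine (Nat.card_congr (e.subtypeEquiv fun v => and_congr (Eq.congr_left ?_).symm ?_)).symm
  · exact ogVal_quad (ω : OG) v
  · show X ≤ stabP v ↔ _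
    have key : ∀ α : ↥(Omega F3 ⇑(qfPlus 4 F3)), QuotientGroup.mk' _ α ∈ stabP v ↔
        QuotientGroup.mk' _ (ω * α * ω⁻¹) ∈ stabP (M *ᵥ v) := fun α => by
      rw [mem_stabP, mem_stabP]
      have : omVal (ω * α * ω⁻¹) *ᵥ (M *ᵥ v) = M *ᵥ (omVal α *ᵥ v) := by
        rw [show omVal (ω * α * ω⁻¹) = M * omVal α * M' from rfl, ← Matrix.mulVec_mulVec, h1,
          Matrix.mulVec_mulVec]
      rw [this, ← Matrix.mulVec_neg]
      exact or_congr e.injective.eq_iff.symm e.injective.eq_iff.symm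
    constructor
    · rintro h _ ⟨x, hx, rfl⟩
      obtain ⟨α, rfl⟩ := QuotientGroup.mk'_surjective _ x
      show MulAut.conj _ _ ∈ stabP (M *ᵥ v)
      rw [MulAut.conj_apply, ← map_inv, ← map_mul, ← map_mul]
      exact (key α).1 (h hx)
    · intro h x hx
      obtain ⟨α, rfl⟩ := QuotientGroup.mk'_surjective _ x
      refine (key α).2 ?_
      rw [map_mul, map_mul, map_inv]
      exact h ⟨_, hx, rfl⟩

/-- A matrix from rows in base three. -/
def rowMat {m n : Type} (pm : m → ℕ) (pn : n → ℕ) (L : List ℕ) : Matrix m n F3 :=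
  Matrix.of fun i j => ((L.getD (pm i) 0 / 3 ^ pn j % 3 : ℕ) : F3)

/-- A case. -/
abbrev Case : Type := ℕ × ℕ × List ℕ × List ℕ × List ℕ × ℕ × ℕ

/-- A product of a row and a number in base three. -/
def lin (d row n : ℕ) : ℕ :=
  Nat.rec (motive := fun _ => ℕ) 0 (fun t r => r + row / 3 ^ t % 3 * (n / 3 ^ t % 3)) d

theorem lin_eq (d row n : ℕ) :
    lin d row n = ∑ t ∈ Finset.range d, row / 3 ^ t % 3 * (n / 3 ^ t % 3) := by
  induction d with
  | zero => rfl
  | succ d ih => rw [Finset.sum_range_succ, ← ih]; rfl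

/-- The value of the form. -/
def qval (d : ℕ) (B : List ℕ) (n : ℕ) : ℕ :=
  (lin d (B.getD 0 0) n * lin d (B.getD 4 0) n + lin d (B.getD 1 0) n * lin d (B.getD 5 0) n +
    lin d (B.getD 2 0) n * lin d (B.getD 6 0) n + lin d (B.getD 3 0) n * lin d (B.getD 7 0) n) % 3

/-- The certificate of a fixed space. -/
def CaseOk (c : Case) : Prop :=
  (mat c.1 - 1) * rowMat pos (fun t : Fin c.2.1 => t.val) c.2.2.2.1 = 0 ∧
    rowMat (fun t : Fin c.2.1 => t.val) pos c.2.2.2.2.1 * rowMat pos (fun t : Fin c.2.1 => t.val) c.2.2.2.1 = 1 ∧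
    rowMat pos pos c.2.2.1 * (mat c.1 - 1) +
      rowMat pos (fun t : Fin c.2.1 => t.val) c.2.2.2.1 * rowMat (fun t : Fin c.2.1 => t.val) pos c.2.2.2.2.1 = 1

instance (c : Case) : Decidable (CaseOk c) := by unfold CaseOk; infer_instance

/-- The counts of a case are right. -/
def countOk (c : Case) : Bool :=
  Nat.beq ((List.range (3 ^ c.2.1)).filter fun n => Nat.beq (qval c.2.1 c.2.2.2.1 n) 0).length c.2.2.2.2.2.1 &&
    Nat.beq ((List.range (3 ^ c.2.1)).filter fun n => Nat.beq (qval c.2.1 c.2.2.2.1 n) 1).length c.2.2.2.2.2.2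

/-- The zero case. -/
def noCase : Case := (0, 0, [], [], [], 0, 0)

theorem cases_ok : ∀ k : Fin 78, CaseOk (cases.getD k.1 noCase) := by decide +kernel

theorem counts_ok : ∀ k : Fin 78, countOk (cases.getD k.1 noCase) = true := by decide +kernel

theorem card_filter (n : ℕ) (b : ℕ → Bool) :
    Nat.card {p : Fin n // b p = true} = ((List.range n).filter b).length := by
  rw [Nat.card_eq_fintype_card, Fintype.card_subtype, ← Finset.card_map Fin.valEmbedding]
  have : (Finset.univ.filter fun p : Fin n => b p = true).map Fin.valEmbedding =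
      ((List.range n).filter b).toFinset := by
    ext x
    simp only [Finset.mem_map, Finset.mem_filter, Finset.mem_univ, true_and, Fin.valEmbedding_apply,
      List.mem_toFinset, List.mem_filter, List.mem_range]
    exact ⟨fun ⟨a, ha, e⟩ => e ▸ ⟨a.2, ha⟩, fun ⟨h1, h2⟩ => ⟨⟨x, h1⟩, h2, rfl⟩⟩
  rw [this, List.toFinset_card_of_nodup (List.nodup_range.filter _)]

theorem card_fixed {c : Case} (h : CaseOk c) (a : ℕ) (ha : a < 3) :
    Nat.card {v : V8 // qfPlus 4 F3 v = (a : F3) ∧ mat c.1 *ᵥ v = v} =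
      ((List.range (3 ^ c.2.1)).filter fun n => Nat.beq (qval c.2.1 c.2.2.2.1 n) a).length := by
  obtain ⟨h1, h2, h3⟩ := h
  set d := c.2.1
  set B : Matrix I8 (Fin d) F3 := rowMat pos (fun t : Fin d => t.val) c.2.2.2.1 with hB
  set C : Matrix (Fin d) I8 F3 := rowMat (fun t : Fin d => t.val) pos c.2.2.2.2.1
  have hfix : ∀ v, mat c.1 *ᵥ v = v ↔ (mat c.1 - 1) *ᵥ v = 0 := fun v => by
    rw [Matrix.sub_mulVec, Matrix.one_mulVec, sub_eq_zero]
  let e : {v : V8 // qfPlus 4 F3 v = (a : F3) ∧ mat c.1 *ᵥ v = v} ≃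
      {x : Fin d → F3 // qfPlus 4 F3 (B *ᵥ x) = (a : F3)} :=
    { toFun := fun v => ⟨C *ᵥ v.1, by
        have e := congrArg (· *ᵥ v.1) h3
        simp only [Matrix.add_mulVec, ← Matrix.mulVec_mulVec, (hfix v.1).1 v.2.2, Matrix.mulVec_zero,
          zero_add, Matrix.one_mulVec] at e
        rw [e]; exact v.2.1⟩
      invFun := fun x => ⟨B *ᵥ x.1, x.2, (hfix _).2 (by rw [Matrix.mulVec_mulVec, h1, Matrix.zero_mulVec])⟩
      left_inv := fun v => Subtype.ext (by
        have e := congrArg (· *ᵥ v.1) h3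
        simp only [Matrix.add_mulVec, ← Matrix.mulVec_mulVec, (hfix v.1).1 v.2.2, Matrix.mulVec_zero,
          zero_add, Matrix.one_mulVec] at e
        exact e)
      right_inv := fun x => Subtype.ext (by
        show C *ᵥ (B *ᵥ x.1) = x.1
        rw [Matrix.mulVec_mulVec, h2, Matrix.one_mulVec]) }
  rw [Nat.card_congr e, ← card_filter]
  let eF : (Fin d → F3) ≃ Fin (3 ^ d) := finFunctionFinEquiv
  refine Nat.card_congr (eF.subtypeEquiv fun x => ?_)
  have hx : ∀ t : Fin d, x t = (((eF x).val / 3 ^ t.val % 3 : ℕ) : F3) := fun t => by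
    have h0 := finFunctionFinEquiv_symm_apply_val (eF x) t
    rw [show finFunctionFinEquiv.symm (eF x) = x from eF.symm_apply_apply x] at h0
    refine Eq.trans ?_ (congrArg (fun m : ℕ => (m : F3)) h0)
    exact (ZMod.natCast_zmod_val (x t)).symm
  have hrow : ∀ i : I8, (B *ᵥ x) i = ((lin d (c.2.2.2.1.getD (pos i) 0) (eF x).val : ℕ) : F3) := fun i => by
    rw [lin_eq, Nat.cast_sum, Finset.sum_range (fun t => ((_ : ℕ) : F3))]
    show ∑ t, B i t * x t = _
    refine Finset.sum_congr rfl fun t _ => ?_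
    rw [hx t, hB, Nat.cast_mul]
    rfl
  have hv : qfPlus 4 F3 (B *ᵥ x) = ((qval d c.2.2.2.1 (eF x).val : ℕ) : F3) := by
    rw [qfPlus_apply, quadFormPlus, Fin.sum_univ_four, qval, ZMod.natCast_mod]
    simp only [hrow, Nat.cast_add, Nat.cast_mul]
    rfl
  rw [hv]
  constructor
  · intro e
    have h' := congrArg ZMod.val e
    rw [ZMod.val_natCast, ZMod.val_natCast, Nat.mod_eq_of_lt ha,
      Nat.mod_eq_of_lt (show qval d c.2.2.2.1 (eF x).val < 3 from Nat.mod_lt _ (by norm_num))] at h'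
    rw [h']
    exact Nat.beq_refl _
  · intro e
    rw [Nat.eq_of_beq_eq_true e]

theorem count_zpowers {w : List ℕ} (hw : inRange w = true) (h3 : Nat.beq (code (w ++ (w ++ w))) (code []) = true)
    (a : F3) : count a (Subgroup.zpowers (evP w)) =
      Nat.card {v : V8 // qfPlus 4 F3 v = a ∧ ogVal (ev w) *ᵥ v = v} := by
  refine Nat.card_congr (Equiv.subtypeEquivRight fun v => and_congr_right fun _ => ?_)
  rw [Subgroup.zpowers_le, evP_eq, mem_stabP]
  refine ⟨fun h => h.elim id fun hn => ?_, Or.inl⟩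
  change ogVal (ev w) *ᵥ v = -v at hn
  have hc := congrArg (fun g : OG => ogVal g *ᵥ v) (ev_eq_of_code (v := w ++ (w ++ w)) (w := [])
    (by simp [inRange_append, hw]) rfl h3)
  simp only [ev_append, ogVal_mul, ev_nil, ogVal_one, ← Matrix.mulVec_mulVec, hn, Matrix.mulVec_neg,
    Matrix.one_mulVec, neg_neg] at hc
  show ogVal (ev w) *ᵥ v = v
  rw [hn, hc]

/-- The permutations of the legs. -/
def permList : List (Equiv.Perm (Fin 3)) :=
  [1, Equiv.swap 1 2, Equiv.swap 0 1, finRotate 3, finRotate 3 * finRotate 3, Equiv.swap 0 2]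

/-- The word of a representative. -/
def repWord (i : Fin 13) : List ℕ := repWords.getD i.1 []

/-- The moved word of a representative. -/
def imgWord (i : Fin 13) (p : Fin 6) : List ℕ := moveWord (permList.getD p.1 1) (repWord i)

/-- The case of a representative and a permutation. -/
def caseOf (i : Fin 13) (p : Fin 6) : Case := cases.getD (6 * i.1 + p.1) noCase

/-- The two counts. -/
def pairOf (i : Fin 13) (p : Fin 6) : ℕ × ℕ := ((caseOf i p).2.2.2.2.2.1, (caseOf i p).2.2.2.2.2.2)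

theorem word_facts : ∀ (i : Fin 13) (p : Fin 6), inRange (imgWord i p) = true ∧
    Nat.beq (code (imgWord i p ++ (imgWord i p ++ imgWord i p))) (code []) = true ∧
    Nat.beq (code (imgWord i p)) (caseOf i p).1 = true ∧
    (repWord i).all (fun q => Nat.blt q 8) = true := by decide +kernel

theorem repRoots_word : ∀ i : Fin 13, sameWord (repRoots.getD i.1 []) ((repWord i).map fun q => L8.getD q 0) = true := by
  decide +kernel

theorem perm_surj : ∀ π : Equiv.Perm (Fin 3), ∃ p : Fin 6, permList.getD p.1 1 = π := by decide +kernel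

/-- The subgroup of a representative. -/
noncomputable def Y (i : Fin 13) : Subgroup P8 := Subgroup.zpowers (evP (repRoots.getD i.1 []))

theorem count_sig (i : Fin 13) (p : Fin 6) :
    (count (0 : F3) ((Y i).map (sig (permList.getD p.1 1)).toMonoidHom),
      count (1 : F3) ((Y i).map (sig (permList.getD p.1 1)).toMonoidHom)) = pairOf i p := by
  obtain ⟨hw, h3, hcode, hq⟩ := word_facts i p
  have hq' : ∀ q ∈ repWord i, q < 8 := fun q hq0 =>
    Nat.le_of_ble_eq_true (List.all_eq_true.1 hq q hq0)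
  have hk : 6 * i.1 + p.1 < 78 := by omega
  have hm : ogVal (ev (imgWord i p)) = mat (caseOf i p).1 := by
    rw [← (code_spec _ hw).2, Nat.eq_of_beq_eq_true hcode]
  have hY : (Y i).map (sig (permList.getD p.1 1)).toMonoidHom = Subgroup.zpowers (evP (imgWord i p)) := by
    rw [Y, MonoidHom.map_zpowers, eq_of_sameWord (repRoots_word i)]
    exact congrArg _ (sig_evP _ _ hq')
  have hco : countOk (caseOf i p) = true := counts_ok ⟨_, hk⟩
  simp only [countOk, Bool.and_eq_true] at hco
  have hC : CaseOk (caseOf i p) := cases_ok ⟨_, hk⟩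
  refine Prod.ext ?_ ?_
  · show count (0 : F3) _ = _
    rw [hY, count_zpowers hw h3, hm]
    exact ((Nat.cast_zero (R := F3)) ▸ card_fixed hC 0 (by norm_num)).trans (Nat.eq_of_beq_eq_true hco.1)
  · show count (1 : F3) _ = _
    rw [hY, count_zpowers hw h3, hm]
    exact ((Nat.cast_one (R := F3)) ▸ card_fixed hC 1 (by norm_num)).trans (Nat.eq_of_beq_eq_true hco.2)

theorem pairs_separate : ∀ i j : Fin 13, (∀ p : Fin 6, pairOf i p = pairOf j p) → i = j := by decide +kernel

theorem count_sig_conj (a : F3) (σ : Equiv.Perm (Fin 3)) (X : Subgroup P8) (z : P8) :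
    count a ((X.map (MulAut.conj z).toMonoidHom).map (sig σ).toMonoidHom) =
      count a (X.map (sig σ).toMonoidHom) := by
  rw [← count_conj a (X.map (sig σ).toMonoidHom) (sig σ z), Subgroup.map_map, Subgroup.map_map]
  congr 2
  ext x
  simp

end Cfsg.Agent.Fus.D4Classes
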