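import Cfsg.Agent.Lib.Fus.D4Classes.Sylow
import Cfsg.Agent.Lib.Fus.D4Classes.ChkTree
import Cfsg.Agent.Lib.Fus.D4Classes.ChkLeaf

/-!
Every subgroup of order three is conjugate to one of thirteen.
-/

set_option autoImplicit false
set_option maxRecDepth 100000

namespace Cfsg.Agent.Fus.D4Classes

open Cfsg Matrix Cfsg.Agent.Classical Cfsg.Agent.Classical.OrthAut

/-- The word of a leaf. -/
def leafWord (i : ℕ) : List ℕ := unpack (leaves.getD i (0, 0, 0, 0)).1

/-- A representative. -/
noncomputable def rep (n : Fin 13) : P8 := evP (repRoots.getD n.1 [])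

theorem between_spec {a : ℕ} {w : List ℕ} (h : between a w = true) : ∀ t ∈ w, a ≤ t ∧ t < 24 := by
  intro t ht
  simp only [between, List.all_eq_true, Bool.and_eq_true] at h
  exact ⟨Nat.le_of_ble_eq_true (h t ht).1, Nat.le_of_ble_eq_true (h t ht).2⟩

theorem inRange_of {a : ℕ} {w : List ℕ} (h : ∀ t ∈ w, a ≤ t ∧ t < 24) : inRange w = true := by
  simpa [inRange] using fun t ht => (h t ht).2

theorem evP_eq_of_code {v w : List ℕ} (hv : inRange v = true) (hw : inRange w = true)
    (h : Nat.beq (code v) (code w) = true) : evP v = evP w :=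
  evP_congr (ev_eq_of_code hv hw h)

theorem evP_replicate (j r : ℕ) : evP (List.replicate j r) = gP r ^ j := by
  simp [evP, List.map_replicate, List.prod_replicate]

theorem tree_cover : ∀ (t : Tr) (k : ℕ) (w : List ℕ), chkTree leaves t k w = true →
    (∀ s ∈ w, 12 ≤ s ∧ s < 24) → ∀ z ∈ U k, ∃ i < 753, ∃ c : P8,
      c⁻¹ * (evP w * z) * c = evP (leafWord i) := by
  intro t
  induction t with
  | leaf i =>
    intro k w h hw z hz
    simp only [chkTree, Bool.and_eq_true] at h
    obtain ⟨⟨hk, hi⟩, hs⟩ := h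
    obtain rfl : k = 12 := Nat.eq_of_beq_eq_true hk
    rw [U_twelve, Subgroup.mem_bot] at hz
    exact ⟨i, leaves_length ▸ Nat.le_of_ble_eq_true hi, 1, by
      rw [inv_one, one_mul, mul_one, hz, mul_one, leafWord, ← eq_of_sameWord hs]⟩
  | split a b c iha ihb ihc =>
    intro k w h hw z hz
    simp only [chkTree, Bool.and_eq_true] at h
    obtain ⟨⟨⟨hk, ha⟩, hb⟩, hc⟩ := h
    have hk' : k < 12 := Nat.le_of_ble_eq_true hk
    obtain ⟨j, hj, z', hz', rfl⟩ := exists_coord hk' hz
    rw [← mul_assoc, ← evP_replicate, ← evP_append]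
    have hw' : ∀ j, ∀ s ∈ w ++ List.replicate j (12 + k), 12 ≤ s ∧ s < 24 := fun j s hs => by
      rcases List.mem_append.1 hs with hs | hs
      · exact hw s hs
      · rw [(List.mem_replicate.1 hs).2]; omega
    interval_cases j
    · simpa using iha (k + 1) w ha hw z' hz'
    · exact ihb (k + 1) _ hb (hw' 1) z' hz'
    · exact ihc (k + 1) _ hc (hw' 2) z' hz'
  | inert t c₁ s₁ c₂ s₂ ih =>
    intro k w h hw z hz
    simp only [chkTree, Bool.and_eq_true] at h
    obtain ⟨⟨⟨hk, ht⟩, h1⟩, h2⟩ := h
    have hk' : k < 12 := Nat.le_of_ble_eq_true hk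
    obtain ⟨j, hj, z', hz', rfl⟩ := exists_coord hk' hz
    have step : ∀ (j cc ss : ℕ), inertOk k j w cc ss = true → ∃ i < 753, ∃ c : P8,
        c⁻¹ * (evP w * (gP (12 + k) ^ j * z')) * c = evP (leafWord i) := by
      intro j cc ss hok
      simp only [inertOk, Bool.and_eq_true] at hok
      obtain ⟨⟨hc, hs⟩, he⟩ := hok
      have hc' := between_spec hc
      have hs' := between_spec hs
      have e := evP_eq_of_code (by
        rw [inRange_append, inRange_append, inRange_of hw, inRange_of hc']
        simp [inRange]; omega) (by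
        rw [inRange_append, inRange_append, inRange_of hw, inRange_of hc', inRange_of hs']; rfl) he
      rw [evP_append, evP_append, evP_append, evP_append, evP_replicate] at e
      set cP := evP (unpack cc)
      have hcU : cP ∈ U 0 := evP_mem_U _ fun t ht => by have := hc' t ht; omega
      have hzz : evP (unpack ss) * (cP⁻¹ * z' * cP) ∈ U (k + 1) := by
        refine mul_mem (evP_mem_U _ fun t ht => by have := hs' t ht; omega) ?_
        have := U_normal (k + 1) cP⁻¹ (inv_mem hcU) z' hz'
        rwa [inv_inv] at this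
      obtain ⟨i, hi, c, hc⟩ := ih (k + 1) w ht hw _ hzz
      refine ⟨i, hi, cP * c, ?_⟩
      rw [← hc]
      have e' : evP w * gP (12 + k) ^ j = cP * (evP w * evP (unpack ss)) * cP⁻¹ := by
        rw [← e, mul_inv_cancel_right]
      rw [← mul_assoc (evP w) (gP (12 + k) ^ j), e']
      group
    interval_cases j
    · simpa using ih (k + 1) w ht hw z' hz'
    · exact step 1 c₁ s₁ h1
    · exact step 2 c₂ s₂ h2

/-- Conjugate to the cyclic group of a representative. -/
def Good (x : P8) : Prop := ∃ (n : Fin 13) (c : P8), c⁻¹ * x * c = rep n ∨ c⁻¹ * x * c = rep n * rep n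

theorem rep_range : ∀ n : Fin 13, inRange (repRoots.getD n.1 []) = true := by decide +kernel

theorem rep_cube (n : Fin 13) : rep n ^ 3 = 1 := by
  have hc : ∀ n : Fin 13, Nat.beq (code (repRoots.getD n.1 [] ++ (repRoots.getD n.1 [] ++
      repRoots.getD n.1 []))) (code []) = true := by decide +kernel
  have h := evP_eq_of_code (by rw [inRange_append, inRange_append, rep_range]; rfl) rfl (hc n)
  rw [evP_append, evP_append, show evP [] = 1 from rfl] at h
  rw [rep, pow_succ, pow_two, mul_assoc]
  exact h

theorem leaf_good : ∀ i < 753, evP (leafWord i) ^ 3 = 1 → evP (leafWord i) = 1 ∨ Good (evP (leafWord i)) := by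
  intro i
  induction i using Nat.strong_induction_on with
  | _ i ih =>
    intro hi h3
    have hall : ∀ i < 753, chkWord leaves i = true ∧ chkLeaf leaves repRoots i = true := fun i hi => by
      simpa [Bool.and_eq_true] using List.all_eq_true.1 chkLeaf_all i (List.mem_range.2 hi)
    have hwd : ∀ i < 753, ∀ t ∈ leafWord i, 0 ≤ t ∧ t < 24 := fun i hi t ht =>
      ⟨Nat.zero_le _, (between_spec (hall i hi).1 t ht).2⟩
    have h := (hall i hi).2
    have hr := inRange_of (hwd i hi)
    unfold chkLeaf at h
    dsimp only at h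
    set e := leaves.getD i (0, 0, 0, 0) with he
    have hrep : ∀ n : Fin 13, inRange (repRoots.getD n.1 []) = true := by decide +kernel
    split at h
    · left
      exact evP_eq_of_code hr rfl h
    · right
      simp only [Bool.and_eq_true] at h
      have hn : e.2.2.1 < 13 := Nat.le_of_ble_eq_true h.1
      exact ⟨⟨_, hn⟩, 1, Or.inl (by
        rw [inv_one, one_mul, mul_one]
        exact evP_eq_of_code hr (hrep ⟨_, hn⟩) h.2)⟩
    · simp only [Bool.and_eq_true] at h
      obtain ⟨⟨hlt, hc⟩, hcode⟩ := h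
      have hj : e.2.2.1 < i := Nat.le_of_ble_eq_true hlt
      set c := evP (unpack e.2.2.2)
      have eq1 : evP (leafWord i) * c = c * evP (leafWord e.2.2.1) := by
        simp only [c, ← evP_append]
        exact evP_eq_of_code (by rw [inRange_append, hr, inRange_of (between_spec hc)]; rfl)
          (by rw [inRange_append, inRange_of (hwd _ (by omega)), inRange_of (between_spec hc)]; rfl) hcode
      have ej : evP (leafWord e.2.2.1) = c⁻¹ * evP (leafWord i) * c := by
        rw [mul_assoc, eq1, inv_mul_cancel_left]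
      have h3' : evP (leafWord e.2.2.1) ^ 3 = 1 := by
        rw [ej, show c⁻¹ * evP (leafWord i) * c = c⁻¹ * evP (leafWord i) * c⁻¹⁻¹ by rw [inv_inv], conj_pow, h3]
        simp
      rcases ih _ hj (by omega) h3' with h1 | ⟨n, d, hd⟩
      · left
        rw [h1, mul_one] at eq1
        exact mul_eq_right.1 eq1
      · right
        refine ⟨n, c * d, ?_⟩
        rw [ej] at hd
        simpa [mul_assoc] using hd
    · simp only [Bool.and_eq_true] at h
      obtain ⟨⟨hlt, hc⟩, hcode⟩ := h
      have hj : e.2.2.1 < i := Nat.le_of_ble_eq_true hlt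
      set c := evP (unpack e.2.2.2)
      set y := evP (leafWord e.2.2.1)
      have eq1 : evP (leafWord i) * c = c * (y * y) := by
        simp only [c, y, ← evP_append]
        exact evP_eq_of_code (by rw [inRange_append, hr, inRange_of (between_spec hc)]; rfl)
          (by rw [inRange_append, inRange_append, inRange_of (between_spec hc),
            inRange_of (hwd _ (by omega) : ∀ t ∈ leafWord e.2.2.1, 0 ≤ t ∧ t < 24)]; rfl) hcode
      have ej : y * y = c⁻¹ * evP (leafWord i) * c := by
        rw [mul_assoc, eq1, inv_mul_cancel_left]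
      have h6 : (y * y) ^ 3 = 1 := by
        rw [ej, show c⁻¹ * evP (leafWord i) * c = c⁻¹ * evP (leafWord i) * c⁻¹⁻¹ by rw [inv_inv], conj_pow, h3]
        simp
      have h9 : y ^ 3 = 1 := by
        obtain ⟨m, hm⟩ : ∃ m, y ^ (3 ^ m) = 1 := by
          obtain ⟨m, hm⟩ := (IsPGroup.of_card (p := 3) (card_U 12 0 rfl))
            ⟨y, evP_mem_U (k := 0) _ fun t ht => by
              have := between_spec (hall _ (by omega : e.2.2.1 < 753)).1 t ht
              omega⟩
          exact ⟨m, congrArg Subtype.val hm⟩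
        have hcop : Nat.Coprime 2 (3 ^ m) := (Nat.coprime_primes Nat.prime_two Nat.prime_three).2 (by norm_num) |>.pow_right m
        have h' : (y ^ 3) ^ 2 = 1 := by rw [← pow_mul, mul_comm, pow_mul, pow_two, h6]
        have h'' : (y ^ 3) ^ (3 ^ m) = 1 := by rw [← pow_mul, mul_comm, pow_mul, hm, one_pow]
        have := (pow_gcd_eq_one (a := y ^ 3) (m := 2) (n := 3 ^ m)).2 ⟨h', h''⟩
        rwa [hcop.gcd_eq_one, pow_one] at this
      rcases ih _ hj (by omega) h9 with h1 | ⟨n, d, hd⟩
      · left
        rw [show y = 1 from h1, mul_one, mul_one] at eq1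
        exact mul_eq_right.1 eq1
      · right
        have e2 : (c * d)⁻¹ * evP (leafWord i) * (c * d) = (d⁻¹ * y * d) * (d⁻¹ * y * d) := by
          rw [show (d⁻¹ * y * d) * (d⁻¹ * y * d) = d⁻¹ * (y * y) * d by group, ej]
          group
        have hn3 : rep n ^ 3 = 1 := rep_cube n
        rcases hd with hd | hd
        · exact ⟨n, c * d, Or.inr (by rw [e2, hd])⟩
        · refine ⟨n, c * d, Or.inl (by rw [e2, hd, ← mul_assoc, ← pow_two, ← pow_succ, hn3, one_mul])⟩
    · exfalso
      have hr3 : inRange (leafWord i ++ (leafWord i ++ leafWord i)) = true := by simp [inRange_append, hr]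
      obtain ⟨-, hm⟩ := code_spec _ hr3
      have he3 : evP (leafWord i ++ (leafWord i ++ leafWord i)) = evP [] := by
        rw [evP_append, evP_append, show evP [] = 1 from rfl, ← mul_assoc, ← pow_two, ← pow_succ, h3]
      simp only [offDiag, Spor.Cos.force_eq, List.any_eq_true, List.mem_range, Bool.and_eq_true,
        Bool.not_eq_true', Bool.or_eq_true] at h
      obtain ⟨a, ha, b, hb, hab, hbit⟩ := h
      have hsurj : ∀ n : Fin 8, ∃ x : I8, pos x = n := by decide
      obtain ⟨x, hx⟩ := hsurj ⟨a, ha⟩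
      obtain ⟨y, hy⟩ := hsurj ⟨b, hb⟩
      have hxy : x ≠ y := fun hxy => by
        subst hxy
        simp only at hx hy
        rw [show a = b by omega, Nat.beq_refl] at hab
        exact Bool.noConfusion hab
      have hne : ogVal (ev (leafWord i ++ (leafWord i ++ leafWord i))) x y ≠ 0 := by
        rw [← hm, mat, dec, Matrix.of_apply, hx, hy]
        show cell _ _ ≠ 0
        rcases hbit with hbit | hbit
        · simp only [leafWord] at hbit ⊢
          rw [hbit]
          generalize Nat.testBit _ _ = u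
          cases u <;> decide
        · simp only [leafWord] at hbit ⊢
          rw [hbit]
          generalize Nat.testBit _ _ = u
          cases u <;> decide
      rcases sign_of_evP he3.symm with hs | hs <;> refine hne ?_ <;> rw [hs] <;>
        simp [Matrix.one_apply_ne hxy]

theorem exists_rep (X : Subgroup P8) (hX : Nat.card X = 3) : ∃ (n : Fin 13) (z : P8),
    X.map (MulAut.conj z).toMonoidHom = Subgroup.zpowers (rep n) := by
  obtain ⟨x, hx⟩ := exists_conj_le_U X hX
  set Y := X.map (MulAut.conj x).toMonoidHom with hY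
  have hY3 : Nat.card Y = 3 := by
    rw [hY, Subgroup.card_map_of_injective (MulAut.conj x).injective, hX]
  obtain ⟨y, hyY, hy1⟩ := (Subgroup.bot_or_exists_ne_one Y).resolve_left fun h => by
    rw [h, Subgroup.card_bot] at hY3
    norm_num at hY3
  have h3 : y ^ 3 = 1 := by
    have := pow_card_eq_one' (x := (⟨y, hyY⟩ : Y))
    rw [hY3] at this
    exact congrArg Subtype.val this
  have hgen : Subgroup.zpowers y = Y := by
    refine Subgroup.eq_of_le_of_card_ge (Subgroup.zpowers_le.2 hyY) ?_
    rw [Nat.card_zpowers, hY3, orderOf_eq_prime h3 hy1]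
  obtain ⟨i, hi, c, hc⟩ := tree_cover tree 0 [] chkTree_all (by simp) y (hx hyY)
  rw [show evP [] = 1 from rfl, one_mul] at hc
  have h3' : evP (leafWord i) ^ 3 = 1 := by
    rw [← hc, show c⁻¹ * y * c = c⁻¹ * y * c⁻¹⁻¹ by rw [inv_inv], conj_pow, h3]
    simp
  rcases leaf_good i hi h3' with h1 | ⟨n, d, hd⟩
  · exfalso
    rw [h1] at hc
    exact hy1 (by rw [show y = c * (c⁻¹ * y * c) * c⁻¹ by group, hc]; simp)
  refine ⟨n, (c * d)⁻¹ * x, ?_⟩
  have key : X.map (MulAut.conj ((c * d)⁻¹ * x)).toMonoidHom =
      Y.map (MulAut.conj (c * d)⁻¹).toMonoidHom := by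
    rw [hY, Subgroup.map_map]
    congr 1
    ext a
    simp [mul_assoc]
  have hcd : ∀ z, (MulAut.conj (c * d)⁻¹) z = (c * d)⁻¹ * z * (c * d) := fun z => by
    rw [MulAut.conj_apply, inv_inv]
  rw [key, ← hgen, MonoidHom.map_zpowers, MulEquiv.coe_toMonoidHom, hcd,
    show (c * d)⁻¹ * y * (c * d) = d⁻¹ * (c⁻¹ * y * c) * d by group, hc]
  rcases hd with hd | hd <;> rw [hd]
  have hn3 : rep n ^ 3 = 1 := rep_cube n
  refine le_antisymm (Subgroup.zpowers_le.2 (mul_mem (Subgroup.mem_zpowers _) (Subgroup.mem_zpowers _)))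
    (Subgroup.zpowers_le.2 ?_)
  have e4 : rep n = (rep n * rep n) * (rep n * rep n) := by
    rw [show rep n * rep n * (rep n * rep n) = rep n ^ 3 * rep n by simp [pow_succ, mul_assoc], hn3, one_mul]
  exact (congrArg (· ∈ Subgroup.zpowers (rep n * rep n)) e4).mpr
    (mul_mem (Subgroup.mem_zpowers _) (Subgroup.mem_zpowers _))

end Cfsg.Agent.Fus.D4Classes
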