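import Cfsg.Agent.Lib.Fus.D4Classes.Words

/-!
The checks on the tree of classes of the unipotent subgroup and on its leaves.
-/

set_option autoImplicit false

namespace Cfsg.Agent.Fus.D4Classes

open Cfsg.Agent.Spor.Cos (force force_eq)

/-- A tree of classes. -/
inductive Tr
  /-- A class. -/
  | leaf (i : ℕ)
  /-- Three coordinates. -/
  | split (a b c : Tr)
  /-- One coordinate suffices. -/
  | inert (t : Tr) (c₁ s₁ c₂ s₂ : ℕ)

/-- The word of a number in base 32. -/
def unpack (n : ℕ) : List ℕ :=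
  Nat.rec (motive := fun _ => ℕ → List ℕ) (fun _ => [])
    (fun _ r n => Bool.rec ((n % 32 - 1) :: r (n / 32)) [] (Nat.beq n 0)) 260 n

/-- The letters lie between two bounds. -/
def between (a : ℕ) (w : List ℕ) : Bool := w.all fun t => Nat.ble a t && Nat.blt t 24

/-- The certificate of an inert step. -/
def inertOk (k j : ℕ) (w : List ℕ) (c s : ℕ) : Bool :=
  between 12 (unpack c) && between (13 + k) (unpack s) &&
    Nat.beq (code (w ++ List.replicate j (12 + k) ++ unpack c)) (code (unpack c ++ (w ++ unpack s)))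

/-- Equal lists of numbers. -/
def sameWord : List ℕ → List ℕ → Bool
  | [], [] => true
  | [], _ :: _ => false
  | _ :: _, [] => false
  | a :: v, b :: w => Nat.beq a b && sameWord v w

theorem eq_of_sameWord : ∀ {v w : List ℕ}, sameWord v w = true → v = w
  | [], [], _ => rfl
  | [], _ :: _, h => by simp [sameWord] at h
  | _ :: _, [], h => by simp [sameWord] at h
  | a :: v, b :: w, h => by
    simp only [sameWord, Bool.and_eq_true] at h
    rw [Nat.eq_of_beq_eq_true h.1, eq_of_sameWord h.2]

/-- The check of a tree at a prefix. -/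
def chkTree (L : List (ℕ × ℕ × ℕ × ℕ)) : Tr → ℕ → List ℕ → Bool
  | .leaf i, k, w => Nat.beq k 12 && Nat.blt i L.length &&
      sameWord w (unpack (L.getD i (0, 0, 0, 0)).1)
  | .split a b c, k, w => Nat.blt k 12 && chkTree L a (k + 1) w &&
      chkTree L b (k + 1) (w ++ List.replicate 1 (12 + k)) &&
      chkTree L c (k + 1) (w ++ List.replicate 2 (12 + k))
  | .inert t c₁ s₁ c₂ s₂, k, w => Nat.blt k 12 && chkTree L t (k + 1) w &&
      inertOk k 1 w c₁ s₁ && inertOk k 2 w c₂ s₂

/-- Some entry off the diagonal is nonzero. -/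
def offDiag (m : ℕ) : Bool :=
  force (planeA m) fun a => force (planeB m) fun b =>
    (List.range 8).any fun i => (List.range 8).any fun j =>
      !Nat.beq i j && (a.testBit (8 * i + j) || b.testBit (8 * i + j))

/-- The check of a leaf. -/
def chkLeaf (L : List (ℕ × ℕ × ℕ × ℕ)) (R : List (List ℕ)) (i : ℕ) : Bool :=
  let e := L.getD i (0, 0, 0, 0)
  let w := unpack e.1
  match e.2.1 with
  | 0 => Nat.beq (code w) (code [])
  | 1 => Nat.blt e.2.2.1 R.length && Nat.beq (code w) (code (R.getD e.2.2.1 []))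
  | 2 => Nat.blt e.2.2.1 i && between 0 (unpack e.2.2.2) &&
      Nat.beq (code (w ++ unpack e.2.2.2))
        (code (unpack e.2.2.2 ++ unpack (L.getD e.2.2.1 (0, 0, 0, 0)).1))
  | 3 => Nat.blt e.2.2.1 i && between 0 (unpack e.2.2.2) &&
      Nat.beq (code (w ++ unpack e.2.2.2))
        (code (unpack e.2.2.2 ++ (unpack (L.getD e.2.2.1 (0, 0, 0, 0)).1 ++
          unpack (L.getD e.2.2.1 (0, 0, 0, 0)).1)))
  | _ => offDiag (code (w ++ (w ++ w)))

/-- The words of the leaves use positive roots. -/
def chkWord (L : List (ℕ × ℕ × ℕ × ℕ)) (i : ℕ) : Bool :=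
  between 12 (unpack (L.getD i (0, 0, 0, 0)).1)

end Cfsg.Agent.Fus.D4Classes
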