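import Cfsg.Agent.Lib.Fus.D4Classes.Cover
import Cfsg.Agent.Lib.Fus.D4Classes.Count
import Cfsg.Agent.Lib.Classical.D4ExtUnique

/-!
Thirteen classes of subgroups of order three in `PΩ⁺₈(3)`, seven in its extension by `S₃`.
-/

set_option autoImplicit false
set_option maxRecDepth 100000
set_option maxHeartbeats 1000000

namespace Cfsg.Agent.Fus.D4Classes

open Cfsg Cfsg.Lie Matrix Cfsg.Agent.Classical Cfsg.Agent.Classical.OrthAut Cfsg.Agent.Lie.Chev

theorem rep_ne_one : ∀ n : Fin 13, rep n ≠ 1 := by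
  intro n h
  have hoff : ∀ n : Fin 13, offDiag (code (repRoots.getD n.1 [])) = true := by decide +kernel
  have h' := hoff n
  simp only [offDiag, Spor.Cos.force_eq, List.any_eq_true, List.mem_range, Bool.and_eq_true,
    Bool.not_eq_true', Bool.or_eq_true] at h'
  obtain ⟨a, ha, b, hb, hab, hbit⟩ := h'
  have hsurj : ∀ n : Fin 8, ∃ x : I8, pos x = n := by decide
  obtain ⟨x, hx⟩ := hsurj ⟨a, ha⟩
  obtain ⟨y, hy⟩ := hsurj ⟨b, hb⟩
  have hxy : x ≠ y := fun hxy => by
    subst hxy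
    simp only at hx hy
    rw [show a = b by omega, Nat.beq_refl] at hab
    exact Bool.noConfusion hab
  have hne : ogVal (ev (repRoots.getD n.1 [])) x y ≠ 0 := by
    rw [← (code_spec _ (rep_range n)).2, mat, dec, Matrix.of_apply, hx, hy]
    show cell _ _ ≠ 0
    rcases hbit with hbit | hbit <;>
      (rw [hbit]; generalize Nat.testBit _ _ = u; cases u <;> decide)
  rcases sign_of_evP (v := []) (w := repRoots.getD n.1 []) (by rw [show evP [] = 1 from rfl]; exact h.symm)
    with hs | hs <;> refine hne ?_ <;> rw [hs] <;> simp [Matrix.one_apply_ne hxy]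

theorem card_Y (n : Fin 13) : Nat.card (Y n) = 3 := by
  rw [Y, Nat.card_zpowers]
  exact orderOf_eq_prime (rep_cube n) (rep_ne_one n)

/-- The index of a product of two leg permutations. -/
def mul6 (p q : Fin 6) : Fin 6 :=
  [(0 : Fin 6), 1, 2, 3, 4, 5, 1, 0, 4, 5, 2, 3, 2, 3, 0, 1, 5, 4, 3, 2, 5, 4, 0, 1, 4, 5, 1, 0, 3, 2,
    5, 4, 3, 2, 1, 0].getD (6 * p.1 + q.1) 0

theorem mul6_spec : ∀ p q : Fin 6,
    permList.getD p.1 1 * permList.getD q.1 1 = permList.getD (mul6 p q).1 1 := by decide +kernel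

theorem pairs_of_conj {i j : Fin 13} {q : Fin 6} {z : P8}
    (h : ((Y i).map (sig (permList.getD q.1 1)).toMonoidHom).map (MulAut.conj z).toMonoidHom = Y j) :
    ∀ p : Fin 6, pairOf i (mul6 p q) = pairOf j p := by
  intro p
  have hc : ((Y i).map (sig (permList.getD q.1 1)).toMonoidHom).map (sig (permList.getD p.1 1)).toMonoidHom =
      (Y i).map (sig (permList.getD (mul6 p q).1 1)).toMonoidHom := by
    rw [← mul6_spec p q, map_mul, Subgroup.map_map]
    rfl
  rw [← count_sig i, ← count_sig j, ← h, count_sig_conj, count_sig_conj, hc]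

theorem mul6_one : ∀ p : Fin 6, mul6 p 0 = p := by decide +kernel

theorem Y_separated (i j : Fin 13) (z : P8)
    (h : (Y i).map (MulAut.conj z).toMonoidHom = Y j) : i = j := by
  refine pairs_separate i j fun p => ?_
  have := pairs_of_conj (i := i) (j := j) (q := 0) (z := z) (by
    rw [show permList.getD (0 : Fin 6).1 1 = 1 from rfl, map_one,
      show (1 : MulAut P8).toMonoidHom = MonoidHom.id P8 from rfl, Subgroup.map_id]
    exact h) p
  rwa [mul6_one] at this

/-- A representative of an orbit. -/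
def orb (a : Fin 7) : Fin 13 := ⟨orbReps.getD a.1 0 % 13, Nat.mod_lt _ (by norm_num)⟩

theorem orb_cover : ∀ i : Fin 13, ∃ (a : Fin 7) (q : Fin 6), ∀ p : Fin 6, pairOf (orb a) (mul6 p q) = pairOf i p := by
  decide +kernel

theorem orb_separated : ∀ (a b : Fin 7) (q : Fin 6),
    (∀ p : Fin 6, pairOf (orb a) (mul6 p q) = pairOf (orb b) p) → a = b := by decide +kernel

theorem sig_outer : ∀ q : Fin 6, (∀ (i : Fin 13) (p : Fin 6), pairOf i (mul6 p q) = pairOf i p) → q = 0 := by
  decide +kernel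

theorem exists_orb (i : Fin 13) : ∃ (a : Fin 7) (q : Fin 6) (z : P8),
    ((Y (orb a)).map (sig (permList.getD q.1 1)).toMonoidHom).map (MulAut.conj z).toMonoidHom = Y i := by
  obtain ⟨a, q, h⟩ := orb_cover i
  have hc : Nat.card ((Y (orb a)).map (sig (permList.getD q.1 1)).toMonoidHom) = 3 :=
    (Subgroup.card_map_of_injective (sig (permList.getD q.1 1)).injective).trans (card_Y _)
  obtain ⟨n, z, hz⟩ := exists_rep _ hc
  have hp := pairs_of_conj (i := orb a) (j := n) (q := q) (z := z) hz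
  have : n = i := pairs_separate n i fun p => (hp p).symm.trans (h p)
  exact ⟨a, q, z, this ▸ hz⟩

/-- The classes of the graph automorphisms in the outer automorphism group. -/
noncomputable def legOut : Equiv.Perm (Fin 3) →* Out P8 := (QuotientGroup.mk' (Inn P8)).comp sig

theorem legOut_injective : Function.Injective legOut := by
  rw [injective_iff_map_eq_one]
  intro π hπ
  obtain ⟨q, rfl⟩ := perm_surj π
  obtain ⟨z, hz⟩ := (QuotientGroup.eq_one_iff _).1 hπ
  have hq : q = 0 := sig_outer q fun i p => by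
    refine pairs_of_conj (z := z⁻¹) ?_ p
    rw [← hz, Subgroup.map_map]
    convert Subgroup.map_id (Y i)
    ext x
    simp [mul_assoc]
  rw [hq]
  rfl

theorem simple_P8 : IsSimpleGroup P8 ∧ ¬ IsMulCommutative P8 := by
  obtain ⟨hs, hn⟩ := certFullD4.simple (F := F3) connD4 (certFullD4.perfect perfectD4)
  haveI : Nontrivial P8 := eD4.symm.toEquiv.nontrivial
  refine ⟨IsSimpleGroup.isSimpleGroup_of_surjective eD4.toMonoidHom eD4.surjective, fun hc => hn ⟨⟨fun a b => eD4.injective ?_⟩⟩⟩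
  rw [map_mul, map_mul]
  exact hc.1.1 _ _

theorem out_chev : Nonempty (Out ↥(chevD4.group F3) ≃* Equiv.Perm (Fin 4) × Multiplicative (ZMod 1)) :=
  OutD4.out_odd (F := F3) (by decide) (p := 3) (f := 1) (by rw [ZMod.card, pow_one])

theorem out_congr (e : ↥(chevD4.group F3) ≃* P8) : Nonempty (Out ↥(chevD4.group F3) ≃* Out P8) :=
  OutD4.out_iso e

theorem out_of_chev {K : Type} [Group K] (w : Nonempty (Out ↥(chevD4.group F3) ≃* Out K)) :
    Nonempty (Out K ≃* Equiv.Perm (Fin 4)) :=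
  w.elim fun w => out_chev.elim fun o => ⟨w.symm.trans (o.trans MulEquiv.prodUnique)⟩

theorem out_S4 : Nonempty (Out P8 ≃* Equiv.Perm (Fin 4)) := out_of_chev (out_congr eD4)

/-- In an extension by the graph automorphisms, conjugacy is the orbit relation. -/
theorem extension_orbits {K : Type} [Group K] (hK : IsSimpleGroup K ∧ ¬ IsMulCommutative K)
    (sg : Equiv.Perm (Fin 3) →* MulAut K)
    (hinj : Function.Injective ((QuotientGroup.mk' (Inn K)).comp sg))
    (ho : Nonempty (Out K ≃* Equiv.Perm (Fin 4)))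
    {G : Type*} [Group G] [Finite G] (ε : ↥(generalizedFittingSubgroup G) ≃* K)
    [(generalizedFittingSubgroup G).Normal]
    (q : G ⧸ generalizedFittingSubgroup G ≃* Equiv.Perm (Fin 3)) :
    ∃ ι : K →* G, Function.Injective ι ∧ ι.range = generalizedFittingSubgroup G ∧
      (∀ (g : G) (X : Subgroup K), ∃ (k : K) (π : Equiv.Perm (Fin 3)),
        (X.map ι).map (MulAut.conj g).toMonoidHom =
          ((X.map (sg π).toMonoidHom).map (MulAut.conj k).toMonoidHom).map ι) ∧
      (∀ (k : K) (π : Equiv.Perm (Fin 3)), ∃ g : G, ∀ X : Subgroup K,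
        (X.map ι).map (MulAut.conj g).toMonoidHom =
          ((X.map (sg π).toMonoidHom).map (MulAut.conj k).toMonoidHom).map ι) := by
  have hC := D4Ext.centralizer_eq_bot ε hK
  let φ : G →* MulAut K := (MulAut.congr ε).toMonoidHom.comp MulAut.conjNormal
  have hφ : ∀ (g : G) (x : K), φ g x = ε (MulAut.conjNormal g (ε.symm x)) := fun _ _ => rfl
  let ψ : G →* Out K := (QuotientGroup.mk' (Inn K)).comp φ
  have hin : ∀ n : ↥(generalizedFittingSubgroup G), φ (n : G) = MulAut.conj (ε n) := fun n => MulEquiv.ext fun k => by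
    rw [hφ, MulAut.conj_apply]
    have : MulAut.conjNormal (n : G) (ε.symm k) = n * ε.symm k * n⁻¹ := Subtype.ext (by
      rw [MulAut.conjNormal_apply]; rfl)
    rw [this, map_mul, map_mul, map_inv, MulEquiv.apply_symm_apply]
  have hk : ψ.ker = generalizedFittingSubgroup G := by
    ext g
    rw [MonoidHom.mem_ker]
    show QuotientGroup.mk (φ g) = (1 : Out K) ↔ _
    rw [QuotientGroup.eq_one_iff]
    refine ⟨fun ⟨k, hk⟩ => ?_, fun hg => ⟨ε ⟨g, hg⟩, (hin ⟨g, hg⟩).symm⟩⟩
    have e : φ g = φ (ε.symm k : G) := by rw [hin, MulEquiv.apply_symm_apply, hk]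
    have hmem : (ε.symm k : G)⁻¹ * g ∈ Subgroup.centralizer (generalizedFittingSubgroup G : Set G) := by
      rw [Subgroup.mem_centralizer_iff]
      intro n hn'
      have h1 : φ ((ε.symm k : G)⁻¹ * g) = 1 := by rw [map_mul, map_inv, e, inv_mul_cancel]
      have h2 := DFunLike.congr_fun h1 (ε ⟨n, hn'⟩)
      rw [hφ, MulEquiv.symm_apply_apply, MulAut.one_apply, ε.injective.eq_iff] at h2
      have h3 := congrArg Subtype.val h2
      rw [MulAut.conjNormal_apply, mul_inv_eq_iff_eq_mul] at h3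
      exact h3.symm
    rw [hC, Subgroup.mem_bot, inv_mul_eq_one] at hmem
    rw [← hmem]; exact (ε.symm k).2
  obtain ⟨o⟩ := ho
  obtain ⟨x, hx⟩ := D4Ext.s3_conj o (S := ((QuotientGroup.mk' (Inn K)).comp sg).range) (S' := ψ.range) ⟨(MonoidHom.ofInjective hinj).symm⟩
    ⟨((QuotientGroup.quotientKerEquivRange ψ).symm.trans (QuotientGroup.quotientMulEquivOfEq hk)).trans q⟩
  obtain ⟨γ, rfl⟩ := QuotientGroup.mk'_surjective _ x
  -- the shape of the action
  have hfwd : ∀ g : G, ∃ (k : K) (π : Equiv.Perm (Fin 3)), γ⁻¹ * φ g * γ = MulAut.conj k * sg π := by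
    intro g
    have : ψ g ∈ ((QuotientGroup.mk' (Inn K)).comp sg).range.map (MulAut.conj (QuotientGroup.mk' (Inn K) γ)).toMonoidHom :=
      hx ▸ ⟨g, rfl⟩
    obtain ⟨_, ⟨π, rfl⟩, e⟩ := this
    change QuotientGroup.mk' (Inn K) γ * QuotientGroup.mk' (Inn K) (sg π) * (QuotientGroup.mk' (Inn K) γ)⁻¹ =
      QuotientGroup.mk' (Inn K) (φ g) at e
    have h2 : QuotientGroup.mk' (Inn K) (γ⁻¹ * φ g * γ * (sg π)⁻¹) = 1 := by
      rw [map_mul, map_mul, map_mul, ← e, map_inv, map_inv]
      show _ * (QuotientGroup.mk' (Inn K) (sg π))⁻¹ = 1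
      group
    obtain ⟨k, hk'⟩ := (QuotientGroup.eq_one_iff _).1 h2
    exact ⟨k, π, by rw [hk', inv_mul_cancel_right]⟩
  have hbwd : ∀ (k : K) (π : Equiv.Perm (Fin 3)), ∃ g : G, γ⁻¹ * φ g * γ = MulAut.conj k * sg π := by
    intro k π
    have : QuotientGroup.mk' (Inn K) (γ * sg π * γ⁻¹) ∈ ψ.range := by
      rw [← hx]
      exact ⟨_, ⟨π, rfl⟩, by simp⟩
    obtain ⟨g, hg⟩ := this
    change QuotientGroup.mk' (Inn K) (φ g) = _ at hg
    have h2 : QuotientGroup.mk' (Inn K) (γ * (MulAut.conj k * sg π) * γ⁻¹ * (φ g)⁻¹) = 1 := by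
      rw [map_mul, map_mul, map_mul, map_mul, map_inv, map_inv, hg, map_mul, map_mul, map_inv,
        show QuotientGroup.mk' (Inn K) (MulAut.conj k) = 1 from (QuotientGroup.eq_one_iff _).2 ⟨k, rfl⟩]
      group
    obtain ⟨m, hm⟩ := (QuotientGroup.eq_one_iff _).1 h2
    refine ⟨(ε.symm m : G) * g, ?_⟩
    rw [map_mul, hin, MulEquiv.apply_symm_apply, hm]
    group
  -- moving subgroups between the two groups
  let ι : K →* G := (Subgroup.subtype _).comp (ε.symm.toMonoidHom.comp γ.toMonoidHom)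
  have hι : Function.Injective ι := Subtype.val_injective.comp (ε.symm.injective.comp γ.injective)
  have hconj : ∀ (g : G) (k : K) (π : Equiv.Perm (Fin 3)), γ⁻¹ * φ g * γ = MulAut.conj k * sg π →
      ∀ X : Subgroup K, (X.map ι).map (MulAut.conj g).toMonoidHom =
        ((X.map (sg π).toMonoidHom).map (MulAut.conj k).toMonoidHom).map ι := by
    intro g k π e X
    rw [Subgroup.map_map, Subgroup.map_map, Subgroup.map_map]
    refine congrArg (X.map ·) (MonoidHom.ext fun x => ?_)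
    have h1 : γ ((MulAut.conj k * sg π) x) = φ g (γ x) := by
      rw [← e, MulAut.mul_apply, MulAut.mul_apply]
      exact MulEquiv.apply_symm_apply γ _
    show g * (ε.symm (γ x) : G) * g⁻¹ = (ε.symm (γ ((MulAut.conj k * sg π) x)) : G)
    rw [h1, hφ, MulEquiv.symm_apply_apply, MulAut.conjNormal_apply]
  refine ⟨ι, hι, ?_, fun g X => ?_, fun k π => ?_⟩
  · ext x
    refine ⟨?_, fun hx => ⟨γ.symm (ε ⟨x, hx⟩), by simp [ι]⟩⟩
    rintro ⟨y, rfl⟩
    exact (ε.symm (γ y)).2
  · obtain ⟨k, π, e⟩ := hfwd g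
    exact ⟨k, π, hconj g k π e X⟩
  · obtain ⟨g, hg⟩ := hbwd k π
    exact ⟨g, hconj g k π hg⟩

/-- Thirteen classes in the group and seven in the extension. -/
theorem thirteen_seven {G : Type*} [Group G] [Finite G]
    {fn : (I8 → F3) → F3} (hfn : ⇑(qfPlus 4 F3) = fn)
    (L : Subgroup G) (hL : L = generalizedFittingSubgroup G)
    (hF : Nonempty (↥L ≃* POmega F3 fn)) [hn : L.Normal]
    (hq : Nonempty (G ⧸ L ≃* Equiv.Perm (Fin 3))) :
    (∃ Y : Fin 13 → Subgroup (POmega F3 fn), (∀ i, Nat.card (Y i) = 3) ∧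
      (∀ i j, (∃ g : POmega F3 fn, (Y i).map (MulAut.conj g).toMonoidHom = Y j) → i = j) ∧
      (∀ X : Subgroup (POmega F3 fn), Nat.card X = 3 →
        ∃ i, ∃ g : POmega F3 fn, X.map (MulAut.conj g).toMonoidHom = Y i)) ∧
    ∃ Y : Fin 7 → Subgroup G, (∀ i, Y i ≤ L ∧ Nat.card (Y i) = 3) ∧
      (∀ i j, (∃ g : G, (Y i).map (MulAut.conj g).toMonoidHom = Y j) → i = j) ∧
      ∀ X : Subgroup G, X ≤ L → Nat.card X = 3 → ∃ i, ∃ g : G, X.map (MulAut.conj g).toMonoidHom = Y i := by
  subst hfn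
  refine ⟨⟨Y, card_Y, fun i j ⟨z, h⟩ => Y_separated i j z h, exists_rep⟩, ?_⟩
  obtain ⟨ε⟩ := hF
  obtain ⟨q⟩ := hq
  subst hL
  obtain ⟨ι, hι, hrange, hfwd, hbwd⟩ := extension_orbits simple_P8 sig legOut_injective out_S4 ε q
  refine ⟨fun a => (Y (orb a)).map ι, fun a => ⟨?_, ?_⟩, fun a b hab => ?_, fun X hX hX3 => ?_⟩
  · rw [← hrange]
    exact Subgroup.map_le_range _ _
  · rw [Subgroup.card_map_of_injective hι, card_Y]
  · obtain ⟨g, hg⟩ := hab
    obtain ⟨k, π, e⟩ := hfwd g (Y (orb a))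
    obtain ⟨s, rfl⟩ := perm_surj π
    rw [e] at hg
    exact orb_separated a b s (pairs_of_conj (Subgroup.map_injective hι hg))
  · have hr : X ≤ ι.range := hrange ▸ hX
    set X' := X.comap ι with hX'
    have hmap : X'.map ι = X := Subgroup.map_comap_eq_self hr
    have hc : Nat.card X' = 3 := by
      rw [← Subgroup.card_map_of_injective (K := X') hι, hmap, hX3]
    obtain ⟨n, z, hz⟩ := exists_rep X' hc
    obtain ⟨a, s, z', hz'⟩ := exists_orb n
    refine ⟨a, ?_⟩
    obtain ⟨g, hg⟩ := hbwd (z⁻¹ * z') (permList.getD s.1 1)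
    refine ⟨g⁻¹, ?_⟩
    have h1 : ((Y (orb a)).map (sig (permList.getD s.1 1)).toMonoidHom).map (MulAut.conj (z⁻¹ * z')).toMonoidHom = X' := by
      rw [map_mul, show (MulAut.conj z⁻¹ * MulAut.conj z').toMonoidHom =
          (MulAut.conj z⁻¹).toMonoidHom.comp (MulAut.conj z').toMonoidHom from rfl, ← Subgroup.map_map, hz']
      change (Subgroup.zpowers (rep n)).map (MulAut.conj z⁻¹).toMonoidHom = X'
      rw [← hz, Subgroup.map_map]
      convert Subgroup.map_id X'
      ext x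
      simp [mul_assoc]
    rw [← hmap, ← h1, ← hg (Y (orb a)), Subgroup.map_map]
    convert Subgroup.map_id ((Y (orb a)).map ι)
    ext x
    simp [mul_assoc]

end Cfsg.Agent.Fus.D4Classes
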