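import Cfsg.Agent.Lib.Fus.D4Classes.Words
import Cfsg.Agent.Lib.Classical.OrthPOmegaCard

/-!
The positive root elements generate a Sylow `3`-subgroup of `PΩ⁺₈(3)`.
-/

set_option autoImplicit false
set_option maxRecDepth 20000

namespace Cfsg.Agent.Fus.D4Classes

open Cfsg Cfsg.Lie Matrix Cfsg.Agent.Classical Cfsg.Agent.Classical.OrthAut Cfsg.Agent.Lie.Chev

theorem qf_nondeg : (QuadraticMap.polarBilin (qfPlus 4 F3)).Nondegenerate := nondegenerate_qfPlus 4

/-- Equal words in the simple group give words equal up to sign. -/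
theorem sign_of_evP {v w : List ℕ} (h : evP v = evP w) :
    ogVal (ev w) = ogVal (ev v) ∨ ogVal (ev w) = -ogVal (ev v) := by
  rw [evP_eq, evP_eq] at h
  have hz := QuotientGroup.eq.1 h
  have hw : ogVal (ev w) = ogVal (ev v) * omVal ((⟨ev v, ev_mem v⟩ : Omega F3 ⇑(qfPlus 4 F3))⁻¹ *
      ⟨ev w, ev_mem w⟩) := by
    show _ = ogVal (ev v) * ogVal ((ev v)⁻¹ * ev w)
    rw [← ogVal_mul, mul_inv_cancel_left]
  rcases center_omega_scalar qf_nondeg (tri_qfPlus (by norm_num)) (by decide) hz with e | e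
  · exact Or.inl (by rw [hw, e, mul_one])
  · exact Or.inr (by rw [hw, e, mul_neg, mul_one])

/-- The subgroup of the positive root elements from the place `k` on. -/
noncomputable def U (k : ℕ) : Subgroup P8 :=
  Subgroup.closure {x | ∃ r, 12 + k ≤ r ∧ r < 24 ∧ x = gP r}

theorem gP_mem_U {k r : ℕ} (h1 : 12 + k ≤ r) (h2 : r < 24) : gP r ∈ U k :=
  Subgroup.subset_closure ⟨r, h1, h2, rfl⟩

theorem U_mono {j k : ℕ} (h : j ≤ k) : U k ≤ U j :=
  Subgroup.closure_mono fun _ ⟨r, h1, h2, e⟩ => ⟨r, by omega, h2, e⟩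

theorem U_twelve : U 12 = ⊥ := by
  rw [eq_bot_iff, U, Subgroup.closure_le]
  rintro x ⟨r, h1, h2, -⟩
  omega

/-- A commutation of two letters up to a later letter. -/
def commCand (r s : ℕ) (z : List ℕ) : Bool :=
  z.all (fun t => decide (s < t) && decide (r < t) && decide (t < 24)) &&
    Nat.beq (code ([r, s])) (code (s :: r :: z))

/-- Some commutation holds. -/
def commOk (r s : ℕ) : Bool :=
  commCand r s [] || (List.range 24).any fun t => commCand r s [t] || commCand r s [t, t]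

theorem commOk_all : ∀ r s : Fin 12, commOk (12 + r) (12 + s) = true := by decide +kernel

theorem exists_comm {r s : ℕ} (hr : 12 ≤ r) (hr' : r < 24) (hs : 12 ≤ s) (hs' : s < 24) :
    ∃ z : List ℕ, (∀ t ∈ z, s < t ∧ r < t ∧ t < 24) ∧ gP r * gP s = gP s * gP r * evP z := by
  have h := commOk_all ⟨r - 12, by omega⟩ ⟨s - 12, by omega⟩
  simp only [show 12 + (r - 12) = r by omega, show 12 + (s - 12) = s by omega] at h
  have key : ∀ z : List ℕ, commCand r s z = true →
      ∃ z : List ℕ, (∀ t ∈ z, s < t ∧ r < t ∧ t < 24) ∧ gP r * gP s = gP s * gP r * evP z := by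
    intro z hz
    simp only [commCand, Bool.and_eq_true, List.all_eq_true, decide_eq_true_eq] at hz
    refine ⟨z, fun t ht => ⟨(hz.1 t ht).1.1, (hz.1 t ht).1.2, (hz.1 t ht).2⟩, ?_⟩
    have he := evP_congr (ev_eq_of_code (v := [r, s]) (w := s :: r :: z) (by simp [inRange, hr', hs'])
      (by simpa [inRange, hr', hs'] using fun t ht => (hz.1 t ht).2) hz.2)
    simpa [evP, mul_assoc] using he
  simp only [commOk, Bool.or_eq_true, List.any_eq_true] at h
  rcases h with h | ⟨t, -, h | h⟩ <;> exact key _ h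

theorem evP_mem_U {k : ℕ} (w : List ℕ) (h : ∀ t ∈ w, 12 + k ≤ t ∧ t < 24) : evP w ∈ U k :=
  list_prod_mem fun x hx => by
    obtain ⟨t, ht, rfl⟩ := List.mem_map.1 hx
    exact gP_mem_U (h t ht).1 (h t ht).2

theorem gP_cube : ∀ r, gP r ^ 3 = 1 := by
  intro r
  by_cases hr : r < 24
  · have h : ∀ r : Fin 24, Nat.beq (code [r.1, r.1, r.1]) (code []) = true := by decide +kernel
    have := evP_congr (ev_eq_of_code (v := [r, r, r]) (w := []) (by simp [inRange, hr]) (by simp [inRange])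
      (h ⟨r, hr⟩))
    simpa [evP, pow_succ, mul_assoc] using this
  · have : gP r = 1 := by
      rw [gP, show (⟨g r, g_mem r⟩ : Omega F3 ⇑(qfPlus 4 F3)) = 1 from Subtype.ext (if_neg hr), map_one]
    rw [this, one_pow]

theorem U_normal : ∀ k, ∀ y ∈ U 0, ∀ x ∈ U k, y * x * y⁻¹ ∈ U k := by
  intro k y hy
  induction hy using Subgroup.closure_induction_left with
  | one => intro x hx; simpa using hx
  | mul_left g hg y _ ih =>
    intro x hx
    obtain ⟨r, hr1, hr2, rfl⟩ := hg
    rw [show gP r * y * x * (gP r * y)⁻¹ = gP r * (y * x * y⁻¹) * (gP r)⁻¹ by group]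
    exact key r hr1 hr2 _ (ih x hx)
  | inv_mul_cancel g hg y _ ih =>
    intro x hx
    obtain ⟨r, hr1, hr2, rfl⟩ := hg
    rw [show (gP r)⁻¹ * y * x * ((gP r)⁻¹ * y)⁻¹ = (gP r)⁻¹ * (y * x * y⁻¹) * (gP r) by group]
    have h2 : (gP r)⁻¹ = gP r * gP r := by
      rw [inv_eq_iff_mul_eq_one, ← gP_cube r, pow_succ, pow_two, mul_assoc]
    rw [h2, show gP r * gP r * (y * x * y⁻¹) * gP r =
      gP r * (gP r * (y * x * y⁻¹) * (gP r)⁻¹) * (gP r * gP r) by group, ← h2]
    exact key r hr1 hr2 _ (key r hr1 hr2 _ (ih x hx))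
where
  key (r : ℕ) (hr1 : 12 + 0 ≤ r) (hr2 : r < 24) : ∀ {k : ℕ}, ∀ x ∈ U k, gP r * x * (gP r)⁻¹ ∈ U k := by
    intro k x hx
    induction hx using Subgroup.closure_induction with
    | mem x hx =>
      obtain ⟨s, hs1, hs2, rfl⟩ := hx
      obtain ⟨z, hz, e⟩ := exists_comm (r := r) (s := s) (by omega) hr2 (by omega) hs2
      rw [e, show gP s * gP r * evP z * (gP r)⁻¹ = gP s * (gP r * evP z * (gP r)⁻¹) by group]
      refine mul_mem (gP_mem_U hs1 hs2) ?_
      exact deep r hr1 hr2 k (evP z) (s + 1) (by omega) (evP_mem_U (k := s + 1 - 12) z fun t ht => by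
        have := hz t ht; omega)
    | one => simp
    | mul a b _ _ ha hb =>
      rw [show gP r * (a * b) * (gP r)⁻¹ = gP r * a * (gP r)⁻¹ * (gP r * b * (gP r)⁻¹) by group]
      exact mul_mem ha hb
    | inv a _ ha =>
      rw [show gP r * a⁻¹ * (gP r)⁻¹ = (gP r * a * (gP r)⁻¹)⁻¹ by group]
      exact inv_mem ha
  deep (r : ℕ) (hr1 : 12 + 0 ≤ r) (hr2 : r < 24) : ∀ (k : ℕ) (x : P8) (m : ℕ), 12 + k ≤ m →
      x ∈ U (m - 12) → gP r * x * (gP r)⁻¹ ∈ U k := by
    suffices H : ∀ d m, 24 - m ≤ d → 12 ≤ m → ∀ x ∈ U (m - 12), gP r * x * (gP r)⁻¹ ∈ U (m - 12) from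
      fun k x m hm hx => U_mono (by omega) (H _ m le_rfl (by omega) x hx)
    intro d
    induction d with
    | zero =>
      intro m hm hm' x hx
      have : x = 1 := Subgroup.mem_bot.1 (U_twelve ▸ U_mono (by omega : 12 ≤ m - 12) hx)
      simp [this]
    | succ d ih =>
      intro m hm hm' x hx
      induction hx using Subgroup.closure_induction with
      | mem x hx =>
        obtain ⟨s, hs1, hs2, rfl⟩ := hx
        obtain ⟨z, hz, e⟩ := exists_comm (r := r) (s := s) (by omega) hr2 (by omega) hs2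
        rw [e, show gP s * gP r * evP z * (gP r)⁻¹ = gP s * (gP r * evP z * (gP r)⁻¹) by group]
        refine mul_mem (gP_mem_U hs1 hs2) ?_
        exact U_mono (by omega : m - 12 ≤ s + 1 - 12) (ih (s + 1) (by omega) (by omega) _
          (evP_mem_U z fun t ht => by have := hz t ht; omega))
      | one => simp
      | mul a b _ _ ha hb =>
        rw [show gP r * (a * b) * (gP r)⁻¹ = gP r * a * (gP r)⁻¹ * (gP r * b * (gP r)⁻¹) by group]
        exact mul_mem ha hb
      | inv a _ ha =>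
        rw [show gP r * a⁻¹ * (gP r)⁻¹ = (gP r * a * (gP r)⁻¹)⁻¹ by group]
        exact inv_mem ha

/-- An element of `U k` splits off its first coordinate. -/
theorem exists_coord {k : ℕ} (hk : k < 12) {x : P8} (hx : x ∈ U k) :
    ∃ j < 3, ∃ z ∈ U (k + 1), x = gP (12 + k) ^ j * z := by
  induction hx using Subgroup.closure_induction with
  | mem x hx =>
    obtain ⟨r, h1, h2, rfl⟩ := hx
    by_cases h : r = 12 + k
    · exact ⟨1, by norm_num, 1, one_mem _, by simp [h]⟩
    · exact ⟨0, by norm_num, _, gP_mem_U (by omega) h2, by simp⟩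
  | one => exact ⟨0, by norm_num, 1, one_mem _, by simp⟩
  | mul a b _ _ ha hb =>
    obtain ⟨i, -, u, hu, rfl⟩ := ha
    obtain ⟨j, -, v, hv, rfl⟩ := hb
    refine ⟨(i + j) % 3, Nat.mod_lt _ (by norm_num), (gP (12 + k) ^ j)⁻¹ * u * gP (12 + k) ^ j * v,
      mul_mem ?_ hv, ?_⟩
    · have := U_normal (k + 1) ((gP (12 + k) ^ j)⁻¹)
        (inv_mem (pow_mem (gP_mem_U (by omega) (by omega)) _)) u hu
      rwa [inv_inv] at this
    · rw [← pow_eq_pow_mod _ (gP_cube _), pow_add]
      group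
  | inv a _ ha =>
    obtain ⟨i, hi, u, hu, rfl⟩ := ha
    refine ⟨(3 - i) % 3, Nat.mod_lt _ (by norm_num), gP (12 + k) ^ i * u⁻¹ * (gP (12 + k) ^ i)⁻¹,
      U_normal (k + 1) _ (pow_mem (gP_mem_U (by omega) (by omega)) _) _ (inv_mem hu), ?_⟩
    rw [← pow_eq_pow_mod _ (gP_cube _), ← mul_assoc, ← mul_assoc, ← pow_add,
      show 3 - i + i = 3 by omega, gP_cube, one_mul, _root_.mul_inv_rev]

/-- The support of the letters. -/
def support (k : ℕ) : List (ℕ × ℕ) :=
  (List.range' (13 + k) (11 - k)).flatMap fun r =>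
    [(pos (ops r).1.1, pos (ops r).1.2.1), (pos (ops r).2.1, pos (ops r).2.2.1)]

/-- One round of composition. -/
def round (R : List (ℕ × ℕ)) : List (ℕ × ℕ) :=
  (R ++ R.flatMap fun a => R.filterMap fun b =>
    if a.2 = b.1 then some (a.1, b.2) else none).dedup

/-- The pattern of `U (k + 1)`. -/
def pattern (k : ℕ) : List (ℕ × ℕ) := round (round (round (support k)))

/-- The pattern of a letter avoids the critical entry. -/
theorem pattern_ok : ∀ k : Fin 12,
    (∀ i : I8, (pos i, pos i) ∉ pattern k) ∧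
    (pos (ops (12 + k)).1.1, pos (ops (12 + k)).1.2.1) ∉ pattern k ∧
    (∀ a ∈ pattern k, ∀ b ∈ pattern k, a.2 = b.1 → (a.1, b.2) ∈ pattern k) ∧
    (∀ a ∈ support k, a ∈ pattern k) := by decide +kernel

/-- A matrix is the identity outside a pattern. -/
def HasPat (R : List (ℕ × ℕ)) (M : Matrix I8 I8 F3) : Prop :=
  ∀ i j, (M - 1) i j ≠ 0 → (pos i, pos j) ∈ R

theorem HasPat.mul {R : List (ℕ × ℕ)} (hR : ∀ a ∈ R, ∀ b ∈ R, a.2 = b.1 → (a.1, b.2) ∈ R)
    {A B : Matrix I8 I8 F3} (hA : HasPat R A) (hB : HasPat R B) : HasPat R (A * B) := by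
  intro i j h
  by_contra hn
  have e : A * B - 1 = (A - 1) * (B - 1) + (A - 1) + (B - 1) := by
    rw [Matrix.mul_sub, Matrix.sub_mul, Matrix.mul_one, Matrix.one_mul]
    abel
  refine h ?_
  have hA0 : (A - 1) i j = 0 := by_contra fun h0 => hn (hA i j h0)
  have hB0 : (B - 1) i j = 0 := by_contra fun h0 => hn (hB i j h0)
  rw [e, Matrix.add_apply, Matrix.add_apply, hA0, hB0, add_zero, add_zero, Matrix.mul_apply]
  refine Finset.sum_eq_zero fun l _ => ?_
  by_contra hl
  obtain ⟨h1, h2⟩ := ne_zero_and_ne_zero_of_mul hl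
  exact hn (hR _ (hA i l h1) _ (hB l j h2) rfl)

theorem pat_letter (k : Fin 12) (r : ℕ) (h1 : 13 + k.1 ≤ r) (h2 : r < 24) :
    HasPat (pattern k) (ogVal (g r)) := by
  intro i j h
  refine (pattern_ok k).2.2.2 _ ?_
  rw [g, if_pos h2, IsoD4.root_val h2, one_smul, add_sub_cancel_left] at h
  rw [Lie.OrthGen.toM_apply] at h
  have key : ∀ r : Fin 24, ∀ i j : I8, ((Lie.OrthGen.coef (IsoD4.ent r) i j : ℤ) : F3) = 0 ∨
      (pos i, pos j) ∈ [(pos (ops r).1.1, pos (ops r).1.2.1), (pos (ops r).2.1, pos (ops r).2.2.1)] := by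
    decide +kernel
  exact List.mem_flatMap.2 ⟨r, List.mem_range'_1.2 ⟨h1, by omega⟩, (key ⟨r, h2⟩ i j).resolve_left h⟩

theorem exists_word_U {k : ℕ} {x : P8} (hx : x ∈ U k) :
    ∃ w : List ℕ, (∀ t ∈ w, 12 + k ≤ t ∧ t < 24) ∧ x = evP w := by
  induction hx using Subgroup.closure_induction_left with
  | one => exact ⟨[], by simp, rfl⟩
  | mul_left g hg y _ ih =>
    obtain ⟨r, h1, h2, rfl⟩ := hg
    obtain ⟨w, hw, rfl⟩ := ih
    exact ⟨r :: w, by simpa using ⟨⟨h1, h2⟩, hw⟩, by simp [evP]⟩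
  | inv_mul_cancel g hg y _ ih =>
    obtain ⟨r, h1, h2, rfl⟩ := hg
    obtain ⟨w, hw, rfl⟩ := ih
    refine ⟨r :: r :: w, by simpa using ⟨⟨h1, h2⟩, hw⟩, ?_⟩
    rw [show (gP r)⁻¹ = gP r * gP r by
      rw [inv_eq_iff_mul_eq_one, ← gP_cube r, pow_succ, pow_two, mul_assoc]]
    simp [evP, mul_assoc]

theorem gP_notMem (k : Fin 12) : gP (12 + k) ∉ U (k + 1) := by
  intro h
  obtain ⟨w, hw, e⟩ := exists_word_U h
  have hp : HasPat (pattern k) (ogVal (ev w)) := by
    clear e
    induction w with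
    | nil => intro i j h; simp at h
    | cons r w ih =>
      rw [ev_cons, ogVal_mul]
      exact (pat_letter k r (by have := hw r (List.mem_cons_self ..); omega)
        (hw r (List.mem_cons_self ..)).2).mul (pattern_ok k).2.2.1
        (ih fun t ht => hw t (List.mem_cons_of_mem _ ht))
  have hs := sign_of_evP (v := [12 + k.1]) (w := w) (by simpa [evP] using e)
  set i := (ops (12 + k)).1.1
  set j := (ops (12 + k)).1.2.1
  have hij : (ogVal (ev w) - 1) i j = 0 := by_contra fun h0 => (pattern_ok k).2.1 (hp i j h0)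
  have hii : (ogVal (ev w) - 1) i i = 0 := by_contra fun h0 => (pattern_ok k).1 i (hp i i h0)
  have hfacts : ∀ k : Fin 12, let r := 12 + k.1
      (1 + Lie.OrthGen.toM F3 (IsoD4.ent r)) (ops r).1.1 (ops r).1.1 = 1 ∧
        (1 + Lie.OrthGen.toM F3 (IsoD4.ent r)) (ops r).1.1 (ops r).1.2.1 ≠ 0 ∧
        (ops r).1.1 ≠ (ops r).1.2.1 := by decide +kernel
  obtain ⟨f1, f2, f3⟩ := hfacts k
  have hv : ogVal (ev [12 + k.1]) = 1 + Lie.OrthGen.toM F3 (IsoD4.ent (12 + k.1)) := by
    rw [ev_cons, ev_nil, mul_one, g, if_pos (by omega), IsoD4.root_val (by omega), one_smul]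
  rw [hv] at hs
  rcases hs with hs | hs
  · rw [hs, Matrix.sub_apply, Matrix.one_apply_ne f3, sub_zero] at hij
    exact f2 hij
  · rw [hs, Matrix.sub_apply, Matrix.one_apply_eq, Matrix.neg_apply, f1] at hii
    exact absurd hii (by decide)

theorem card_U : ∀ d k, d + k = 12 → Nat.card (U k) = 3 ^ d := by
  intro d
  induction d with
  | zero => intro k hk; rw [show k = 12 by omega, U_twelve, Subgroup.card_bot, pow_zero]
  | succ d ih =>
    intro k hk
    rw [pow_succ, ← ih (k + 1) (by omega)]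
    let f : U (k + 1) × Fin 3 → U k := fun p => ⟨gP (12 + k) ^ p.2.1 * p.1.1,
      mul_mem (pow_mem (gP_mem_U le_rfl (by omega)) _) (U_mono (by omega) p.1.2)⟩
    have hf : Function.Bijective f := by
      constructor
      · rintro ⟨u, i⟩ ⟨v, j⟩ e
        have e' : gP (12 + k) ^ i.1 * u.1 = gP (12 + k) ^ j.1 * v.1 := congrArg Subtype.val e
        have hij : i = j := by
          by_contra hne
          refine gP_notMem ⟨k, by omega⟩ ?_
          have hmem : gP (12 + k) ^ ((3 - i.1 + j.1) % 3) ∈ U (k + 1) := by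
            rw [← pow_eq_pow_mod _ (gP_cube _), pow_add,
              show gP (12 + k) ^ j.1 = gP (12 + k) ^ i.1 * u.1 * v.1⁻¹ by rw [e']; group,
              ← mul_assoc, ← mul_assoc, ← pow_add, show 3 - i.1 + i.1 = 3 by omega, gP_cube, one_mul]
            exact mul_mem u.2 (inv_mem v.2)
          have : (3 - i.1 + j.1) % 3 = 1 ∨ (3 - i.1 + j.1) % 3 = 2 := by
            have := i.2; have := j.2; have : i.1 ≠ j.1 := fun h => hne (Fin.ext h)
            omega
          rcases this with h | h <;> rw [h] at hmem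
          · simpa using hmem
          · have h4 := pow_mem hmem 2
            rw [← pow_mul, pow_eq_pow_mod _ (gP_cube _)] at h4
            simpa using h4
        subst hij
        exact Prod.ext (Subtype.ext (mul_left_cancel e')) rfl
      · rintro ⟨x, hx⟩
        obtain ⟨j, hj, z, hz, e⟩ := exists_coord (by omega) hx
        exact ⟨(⟨z, hz⟩, ⟨j, hj⟩), Subtype.ext e.symm⟩
    rw [← Nat.card_congr (Equiv.ofBijective f hf), Nat.card_prod, Nat.card_fin]

theorem not_dvd_card : ¬ 3 ^ 13 ∣ Nat.card P8 := by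
  intro h
  have hi : isoCard (qfPlus 4 F3) = 39617438515200 := by
    have h := order_qfPlus (F := F3) 3
    rw [ZMod.card] at h
    norm_num [Finset.prod_range_succ] at h
    exact_mod_cast h
  have hd : Nat.card P8 ∣ 39617438515200 := hi ▸ ⟨_, (card_pomega_mul (qfPlus 4 F3)).symm.trans (mul_comm _ _)⟩
  exact absurd (h.trans hd) (by norm_num)

theorem exists_conj_le_U (X : Subgroup P8) (hX : Nat.card X = 3) :
    ∃ z : P8, X.map (MulAut.conj z).toMonoidHom ≤ U 0 := by
  have hfin : Finite P8 := inferInstance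
  have hU := card_U 12 0 rfl
  have hS : IsPGroup 3 (U 0) := IsPGroup.of_card hU
  obtain ⟨S, hS'⟩ := hS.exists_le_sylow
  have hXp : IsPGroup 3 X := IsPGroup.of_card (n := 1) (by rw [hX, pow_one])
  obtain ⟨T, hT⟩ := hXp.exists_le_sylow
  obtain ⟨z, hz⟩ := MulAction.exists_smul_eq P8 T S
  have heq : U 0 = S := by
    refine Subgroup.eq_of_le_of_card_ge hS' ?_
    obtain ⟨n, hn⟩ := S.2.exists_card_eq
    rw [hn, hU]
    refine Nat.pow_le_pow_right (by norm_num) ?_
    by_contra hlt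
    exact not_dvd_card ((pow_dvd_pow 3 (show 13 ≤ n by omega)).trans (hn ▸ Subgroup.card_subgroup_dvd_card _))
  refine ⟨z, ?_⟩
  rw [heq, ← hz]
  exact Subgroup.map_mono hT

end Cfsg.Agent.Fus.D4Classes
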