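import Cfsg.Agent.Lib.Fus.D4Classes.Defs

/-! Certificates. -/

set_option autoImplicit false
set_option maxRecDepth 100000
set_option maxHeartbeats 4000000

namespace Cfsg.Agent.Fus.D4Classes

/-- A part of the tree. -/
def part0 : Tr := .split (.split (.split (.split (.split (.split (.split (.leaf 0) (.leaf 1) (.leaf 14)) (.inert (.leaf 16) 15 0 495 0) (.inert (.leaf 15) 495 0 15 0)) (.inert (.inert (.leaf 116) 528 0 16 0) 13 0 429 0) (.inert (.inert (.leaf 117) 16 0 528 0) 429 0 13 0)) (.split (.inert (.inert (.leaf 115) 561 0 17 0) 14 0 462 0) (.inert (.inert (.leaf 2) 608817 0 593 0) 13 0 429 0) (.inert (.inert (.leaf 3) 18993 0 19025 0) 429 0 13 0)) (.split (.inert (.inert (.leaf 118) 17 0 561 0) 462 0 14 0) (.inert (.inert (.leaf 22) 19025 0 18993 0) 13 0 429 0) (.inert (.inert (.leaf 17) 593 0 608817 0) 429 0 13 0))) (.inert (.inert (.split (.inert (.leaf 322) 18 0 594 0) (.inert (.leaf 24) 15 0 495 0) (.inert (.leaf 20) 495 0 15 0)) 14 0 462 0) 13 0 429 0) (.inert (.inert (.split (.inert (.leaf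 321) 594 0 18 0) (.inert (.leaf 19) 15 0 495 0) (.inert (.leaf 25) 495 0 15 0)) 462 0 14 0) 429 0 13 0)) (.inert (.inert (.inert (.inert (.split (.leaf 447) (.leaf 124) (.leaf 131)) 18 0 594 0) 17 0 561 0) 16 0 528 0) 15 0 495 0) (.inert (.inert (.inert (.inert (.split (.leaf 448) (.leaf 130) (.leaf 125)) 594 0 18 0) 561 0 17 0) 528 0 16 0) 495 0 15 0)) (.split (.split (.split (.split (.inert (.inert (.leaf 119) 660 0 20 0) 627 0 19 0) (.inert (.inert (.leaf 4) 528 0 16 0) 13 0 429 0) (.inert (.inert (.leaf 5) 16 0 528 0) 429 0 13 0)) (.split (.inert (.inert (.leaf 6) 561 0 17 0) 14 0 462 0) (.inert (.inert (.leaf 7) 608817 0 593 0) 13 0 429 0) (.inert (.inert (.leaf 8) 18993 0 19025 0) 429 0 13 0)) (.split (.inert (.inert (.leaf 9) 17 0 561 0) 462 0 14 0) (.inert (.inert (.leaf 10) 19025 0 18993 0) 13 0 429 0) (.inert (.inert (.leaf 11) 593 0 608817 0) 429 0 13 0))) (.inert (.inert (.inert (.inert (.leaf 12) 18 0 594 0) 627 0 19 0) 14 0 462 0) 13 0 429 0) (.inert (.inert (.inert (.inert (.leaf 80) 594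 0 18 0) 627 0 19 0) 462 0 14 0) 429 0 13 0)) (.inert (.inert (.inert (.inert (.inert (.leaf 87) 660 0 20 0) 18 0 594 0) 17 0 561 0) 16 0 528 0) 15 0 495 0) (.inert (.inert (.inert (.inert (.inert (.leaf 79) 660 0 20 0) 594 0 18 0) 561 0 17 0) 528 0 16 0) 495 0 15 0)) (.split (.split (.split (.split (.inert (.inert (.leaf 114) 20 0 660 0) 19 0 627 0) (.inert (.inert (.leaf 32) 528 0 16 0) 13 0 429 0) (.inert (.inert (.leaf 27) 16 0 528 0) 429 0 13 0)) (.split (.inert (.inert (.leaf 56) 561 0 17 0) 14 0 462 0) (.inert (.inert (.leaf 68) 608817 0 593 0) 13 0 429 0) (.inert (.inert (.leaf 61) 18993 0 19025 0) 429 0 13 0)) (.split (.inert (.inert (.leaf 37) 17 0 561 0) 462 0 14 0) (.inert (.inert (.leaf 49) 19025 0 18993 0) 13 0 429 0) (.inert (.inert (.leaf 42) 593 0 608817 0) 429 0 13 0))) (.inert (.inert (.inert (.inert (.leaf 204) 18 0 594 0) 19 0 627 0) 14 0 462 0) 13 0 429 0) (.inert (.inert (.inert (.inert (.leaf 75) 594 0 18 0) 19 0 627 0) 462 0 14 0) 429 0 13 0)) (.inert (.inert (.inert (.inert (.inert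 (.leaf 205) 20 0 660 0) 18 0 594 0) 17 0 561 0) 16 0 528 0) 15 0 495 0) (.inert (.inert (.inert (.inert (.inert (.leaf 206) 20 0 660 0) 594 0 18 0) 561 0 17 0) 528 0 16 0) 495 0 15 0))

/-- A part of the tree. -/
def part1 : Tr := .inert (.split (.split (.split (.inert (.split (.inert (.leaf 318) 21 0 693 0) (.inert (.leaf 35) 15 0 495 0) (.inert (.leaf 28) 495 0 15 0)) 627 0 19 0) (.inert (.inert (.inert (.leaf 210) 561 0 17 0) 14 0 462 0) 627 0 19 0) (.inert (.inert (.inert (.leaf 88) 17 0 561 0) 462 0 14 0) 627 0 19 0)) (.split (.inert (.split (.inert (.leaf 41) 18 0 594 0) (.inert (.leaf 53) 15 0 495 0) (.inert (.leaf 46) 495 0 15 0)) 14 0 462 0) (.inert (.inert (.inert (.leaf 257) 561 0 17 0) 622 0 642510 0) 14 759 462 23) (.inert (.inert (.inert (.leaf 89) 17 0 561 0) 642510 0 622 0) 14 23 462 759)) (.split (.inert (.split (.inert (.leaf 59) 594 0 18 0) (.inert (.leaf 72) 15 0 495 0) (.inert (.leaf 65) 495 0 15 0)) 462 0 14 0) (.inert (.inert (.inert (.leaf 258) 561 0 17 0) 20078 0 19918 0) 462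 23 14 759) (.inert (.inert (.inert (.leaf 90) 17 0 561 0) 19918 0 20078 0) 462 759 14 23))) (.inert (.inert (.inert (.inert (.inert (.leaf 291) 21 0 693 0) 18 0 594 0) 17 0 561 0) 16 0 528 0) 15 0 495 0) (.inert (.inert (.inert (.inert (.inert (.leaf 248) 21 0 693 0) 594 0 18 0) 561 0 17 0) 528 0 16 0) 495 0 15 0)) 13 0 429 0

/-- A part of the tree. -/
def part2 : Tr := .inert (.split (.split (.split (.inert (.split (.inert (.leaf 319) 693 0 21 0) (.inert (.leaf 30) 15 0 495 0) (.inert (.leaf 33) 495 0 15 0)) 19 0 627 0) (.inert (.inert (.inert (.leaf 84) 561 0 17 0) 14 0 462 0) 19 0 627 0) (.inert (.inert (.inert (.leaf 207) 17 0 561 0) 462 0 14 0) 19 0 627 0)) (.split (.inert (.split (.inert (.leaf 58) 18 0 594 0) (.inert (.leaf 64) 15 0 495 0) (.inert (.leaf 71) 495 0 15 0)) 14 0 462 0) (.inert (.inert (.inert (.leaf 86) 561 0 17 0) 20078 0 19918 0) 14 759 462 23) (.inert (.inert (.inert (.leaf 255) 17 0 561 0) 19918 0 20078 0) 14 23 462 759)) (.split (.inert (.split (.inert (.leaf 40) 594 0 18 0)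 (.inert (.leaf 45) 15 0 495 0) (.inert (.leaf 52) 495 0 15 0)) 462 0 14 0) (.inert (.inert (.inert (.leaf 85) 561 0 17 0) 622 0 642510 0) 462 23 14 759) (.inert (.inert (.inert (.leaf 256) 17 0 561 0) 642510 0 622 0) 462 759 14 23))) (.inert (.inert (.inert (.inert (.inert (.leaf 290) 693 0 21 0) 18 0 594 0) 17 0 561 0) 16 0 528 0) 15 0 495 0) (.inert (.inert (.inert (.inert (.inert (.leaf 247) 693 0 21 0) 594 0 18 0) 561 0 17 0) 528 0 16 0) 495 0 15 0)) 429 0 13 0

/-- A part of the tree. -/
def part3 : Tr := .split (.inert (.split (.split (.inert (.split (.split (.inert (.leaf 317) 22 0 726 0) (.inert (.leaf 60) 15 0 495 0) (.inert (.leaf 38) 495 0 15 0)) (.inert (.inert (.leaf 213) 528 0 16 0) 13 0 429 0) (.inert (.inert (.leaf 91) 16 0 528 0) 429 0 13 0)) 627 0 19 0) (.inert (.split (.split (.inert (.leaf 31) 18 0 594 0) (.inert (.leaf 66) 15 0 495 0) (.inert (.leaf 47) 495 0 15 0)) (.inert (.inert (.leaf 259) 528 0 16 0) 621 0 642477 0) (.inert (.inert (.leaf 92) 16 0 528 0) 642477 0 621 0)) 13 0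 429 0) (.inert (.split (.split (.inert (.leaf 36) 594 0 18 0) (.inert (.leaf 73) 15 0 495 0) (.inert (.leaf 54) 495 0 15 0)) (.inert (.inert (.leaf 260) 528 0 16 0) 20077 0 19885 0) (.inert (.inert (.leaf 93) 16 0 528 0) 19885 0 20077 0)) 429 0 13 0)) (.inert (.inert (.inert (.inert (.inert (.leaf 292) 790 0 811734 0) 18 0 594 0) 17 0 561 0) 16 0 528 0) 15 0 495 0) (.inert (.inert (.inert (.inert (.inert (.leaf 249) 25366 0 25302 0) 594 0 18 0) 561 0 17 0) 528 0 16 0) 495 0 15 0)) 14 0 462 0) (.inert (.split (.split (.inert (.split (.split (.inert (.leaf 18) 758 0 777942 0) (.inert (.leaf 74) 15 0 495 0) (.inert (.leaf 43) 495 0 15 0)) (.inert (.inert (.leaf 226) 607760 0 19482160 0) 14797 0 14765 0) (.inert (.inert (.leaf 223) 19482160 0 607760 0) 14765 0 14797 0)) 627 811734 19 790) (.inert (.inert (.split (.inert (.leaf 323) 607760 0 19482160 0) (.inert (.leaf 367) 15 0 495 0) (.inert (.leaf 13) 495 0 15 0)) 637389 791 20560301 25367) 14797 22 14765 726) (.inert (.inert (.split (.inert (.leaf 342)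 19482160 0 607760 0) (.inert (.leaf 313) 15 0 495 0) (.inert (.leaf 372) 495 0 15 0)) 637357 25335 20560333 811767) 14765 22 14797 726)) (.inert (.inert (.inert (.inert (.inert (.leaf 481) 849016966704 0 851061556752 0) 18 0 594 0) 593 759 608817 23) 19482160 758 607760 777942) 15 0 495 0) (.inert (.inert (.inert (.inert (.inert (.leaf 482) 811766 0 25943766 0) 594 0 18 0) 608817 759 593 23) 607760 758 19482160 777942) 495 0 15 0)) 13 0 429 0) (.inert (.split (.split (.inert (.split (.split (.inert (.leaf 23) 24310 0 24278 0) (.inert (.leaf 67) 15 0 495 0) (.inert (.leaf 50) 495 0 15 0)) (.inert (.inert (.leaf 239) 19449360 0 608816 0) 461 0 473517 0) (.inert (.inert (.leaf 233) 608816 0 19449360 0) 473517 0 461 0)) 627 790 19 811734) (.inert (.inert (.split (.inert (.leaf 335) 19449360 0 608816 0) (.inert (.leaf 311) 15 0 495 0) (.inert (.leaf 387) 495 0 15 0)) 657930669 25335 19917 811767) 461 726 473517 22) (.inert (.inert (.split (.inert (.leaf 330) 608816 0 19449360 0) (.inert (.leaf 392) 15 0 495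 0) (.inert (.leaf 305) 495 0 15 0)) 642509 791 20396461 25367) 473517 726 461 22)) (.inert (.inert (.inert (.inert (.inert (.leaf 483) 20563472 0 27237262411312 0) 18 0 594 0) 19025 23 18993 759) 608816 24278 19449360 24310) 15 0 495 0) (.inert (.inert (.inert (.inert (.inert (.leaf 484) 25976566 0 810710 0) 594 0 18 0) 18993 23 19025 759) 19449360 24278 608816 24310) 495 0 15 0)) 429 0 13 0)

/-- A part of the tree. -/
def part4 : Tr := .split (.inert (.split (.split (.inert (.split (.split (.inert (.leaf 320) 726 0 22 0) (.inert (.leaf 39) 15 0 495 0) (.inert (.leaf 57) 495 0 15 0)) (.inert (.inert (.leaf 81) 528 0 16 0) 13 0 429 0) (.inert (.inert (.leaf 208) 16 0 528 0) 429 0 13 0)) 19 0 627 0) (.inert (.split (.split (.inert (.leaf 34) 18 0 594 0) (.inert (.leaf 51) 15 0 495 0) (.inert (.leaf 70) 495 0 15 0)) (.inert (.inert (.leaf 83) 528 0 16 0) 20077 0 19885 0) (.inert (.inert (.leaf 253) 16 0 528 0) 19885 0 20077 0)) 13 0 429 0) (.inert (.split (.split (.inert (.leaf 29) 594 0 18 0) (.inert (.leaf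 44) 15 0 495 0) (.inert (.leaf 63) 495 0 15 0)) (.inert (.inert (.leaf 82) 528 0 16 0) 621 0 642477 0) (.inert (.inert (.leaf 254) 16 0 528 0) 642477 0 621 0)) 429 0 13 0)) (.inert (.inert (.inert (.inert (.inert (.leaf 289) 25302 0 25366 0) 18 0 594 0) 17 0 561 0) 16 0 528 0) 15 0 495 0) (.inert (.inert (.inert (.inert (.inert (.leaf 246) 811734 0 790 0) 594 0 18 0) 561 0 17 0) 528 0 16 0) 495 0 15 0)) 462 0 14 0) (.inert (.split (.split (.inert (.split (.split (.inert (.leaf 26) 24278 0 24310 0) (.inert (.leaf 55) 15 0 495 0) (.inert (.leaf 62) 495 0 15 0)) (.inert (.inert (.leaf 236) 19449360 0 608816 0) 461 0 473517 0) (.inert (.inert (.leaf 234) 608816 0 19449360 0) 473517 0 461 0)) 19 25366 627 25302) (.inert (.inert (.split (.inert (.leaf 329) 19449360 0 608816 0) (.inert (.leaf 309) 15 0 495 0) (.inert (.leaf 391) 495 0 15 0)) 20396461 811767 642509 25335) 461 726 473517 22) (.inert (.inert (.split (.inert (.leaf 337) 608816 0 19449360 0) (.inert (.leaf 389) 15 0 495 0) (.inert (.leaf 306) 495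 0 15 0)) 19917 25367 657930669 791) 473517 726 461 22)) (.inert (.inert (.inert (.inert (.inert (.leaf 485) 20563504 0 27237295965712 0) 18 0 594 0) 19025 23 18993 759) 608816 24278 19449360 24310) 15 0 495 0) (.inert (.inert (.inert (.inert (.inert (.leaf 486) 25976534 0 810742 0) 594 0 18 0) 18993 23 19025 759) 19449360 24278 608816 24310) 495 0 15 0)) 13 0 429 0) (.inert (.split (.split (.inert (.split (.split (.inert (.leaf 21) 777942 0 758 0) (.inert (.leaf 48) 15 0 495 0) (.inert (.leaf 69) 495 0 15 0)) (.inert (.inert (.leaf 220) 607760 0 19482160 0) 14797 0 14765 0) (.inert (.inert (.leaf 221) 19482160 0 607760 0) 14765 0 14797 0)) 19 25302 627 25366) (.inert (.inert (.split (.inert (.leaf 341) 607760 0 19482160 0) (.inert (.leaf 371) 15 0 495 0) (.inert (.leaf 315) 495 0 15 0)) 20560333 25367 637357 791) 14797 22 14765 726) (.inert (.inert (.split (.inert (.leaf 325) 19482160 0 607760 0) (.inert (.leaf 97) 15 0 495 0) (.inert (.leaf 368) 495 0 15 0)) 20560301 811767 637389 25335) 14765 22 14797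 726)) (.inert (.inert (.inert (.inert (.inert (.leaf 487) 848981181968 0 831114800 0) 18 0 594 0) 593 759 608817 23) 19482160 758 607760 777942) 15 0 495 0) (.inert (.inert (.inert (.inert (.inert (.leaf 488) 831250134 0 25334 0) 594 0 18 0) 608817 759 593 23) 607760 758 19482160 777942) 495 0 15 0)) 429 0 13 0)

/-- A part of the tree. -/
def part5 : Tr := .inert (.inert (.split (.split (.inert (.split (.split (.split (.inert (.leaf 443) 759 0 23 0) (.inert (.leaf 209) 15 0 495 0) (.inert (.leaf 76) 495 0 15 0)) (.split (.inert (.leaf 175) 528 0 16 0) (.inert (.leaf 263) 15 0 495 0) (.inert (.leaf 215) 495 0 15 0)) (.split (.inert (.leaf 146) 16 0 528 0) (.inert (.leaf 262) 15 0 495 0) (.inert (.leaf 216) 495 0 15 0))) (.split (.split (.inert (.leaf 139) 561 0 17 0) (.inert (.leaf 276) 15 0 495 0) (.inert (.leaf 212) 495 0 15 0)) (.split (.inert (.leaf 199) 561 0 17 0) (.inert (.leaf 278) 15 0 495 0) (.inert (.leaf 352) 495 0 15 0)) (.split (.inert (.leaf 169) 561 0 17 0) (.inert (.leaf 277) 15 0 495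 0) (.inert (.leaf 353) 495 0 15 0))) (.split (.split (.inert (.leaf 134) 17 0 561 0) (.inert (.leaf 268) 15 0 495 0) (.inert (.leaf 217) 495 0 15 0)) (.split (.inert (.leaf 187) 17 0 561 0) (.inert (.leaf 270) 15 0 495 0) (.inert (.leaf 347) 495 0 15 0)) (.split (.inert (.leaf 157) 17 0 561 0) (.inert (.leaf 269) 15 0 495 0) (.inert (.leaf 348) 495 0 15 0)))) 627 0 19 0) (.inert (.inert (.inert (.inert (.inert (.leaf 429) 25335 0 25367 0) 18 0 594 0) 17 0 561 0) 16 0 528 0) 15 0 495 0) (.inert (.inert (.inert (.inert (.inert (.leaf 398) 811767 0 791 0) 594 0 18 0) 561 0 17 0) 528 0 16 0) 495 0 15 0)) (.split (.inert (.split (.split (.split (.inert (.leaf 127) 759 0 23 0) (.inert (.leaf 235) 15 0 495 0) (.inert (.leaf 78) 495 0 15 0)) (.split (.inert (.leaf 182) 528 0 16 0) (.inert (.leaf 378) 15 0 495 0) (.inert (.leaf 241) 495 0 15 0)) (.split (.inert (.leaf 165) 16 0 528 0) (.inert (.leaf 379) 15 0 495 0) (.inert (.leaf 242) 495 0 15 0))) (.split (.split (.inert (.leaf 163) 561 0 17 0) (.inert (.leaf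 383) 15 0 495 0) (.inert (.leaf 238) 495 0 15 0)) (.split (.inert (.leaf 394) 561 0 17 0) (.inert (.leaf 434) 15 0 495 0) (.inert (.leaf 435) 495 0 15 0)) (.split (.inert (.leaf 307) 561 0 17 0) (.inert (.leaf 333) 15 0 495 0) (.inert (.leaf 332) 495 0 15 0))) (.split (.split (.inert (.leaf 183) 17 0 561 0) (.inert (.leaf 384) 15 0 495 0) (.inert (.leaf 243) 495 0 15 0)) (.split (.inert (.leaf 308) 17 0 561 0) (.inert (.leaf 336) 15 0 495 0) (.inert (.leaf 338) 495 0 15 0)) (.split (.inert (.leaf 388) 17 0 561 0) (.inert (.leaf 99) 15 0 495 0) (.inert (.leaf 100) 495 0 15 0)))) 627 25335 19 25367) (.inert (.inert (.inert (.inert (.inert (.leaf 489) 658065903 0 27238402248271 0) 18 0 594 0) 17 0 561 0) 16 0 528 0) 15 0 495 0) (.inert (.inert (.inert (.inert (.inert (.leaf 490) 811767 0 791 0) 594 0 18 0) 561 0 17 0) 528 0 16 0) 495 0 15 0)) (.split (.inert (.split (.split (.split (.inert (.leaf 122) 759 0 23 0) (.inert (.leaf 222) 15 0 495 0) (.inert (.leaf 77) 495 0 15 0)) (.split (.inert (.leaf 194)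 528 0 16 0) (.inert (.leaf 357) 15 0 495 0) (.inert (.leaf 228) 495 0 15 0)) (.split (.inert (.leaf 153) 16 0 528 0) (.inert (.leaf 356) 15 0 495 0) (.inert (.leaf 229) 495 0 15 0))) (.split (.split (.inert (.leaf 193) 561 0 17 0) (.inert (.leaf 363) 15 0 495 0) (.inert (.leaf 225) 495 0 15 0)) (.split (.inert (.leaf 314) 561 0 17 0) (.inert (.leaf 344) 15 0 495 0) (.inert (.leaf 345) 495 0 15 0)) (.split (.inert (.leaf 373) 561 0 17 0) (.inert (.leaf 107) 15 0 495 0) (.inert (.leaf 108) 495 0 15 0))) (.split (.split (.inert (.leaf 154) 17 0 561 0) (.inert (.leaf 362) 15 0 495 0) (.inert (.leaf 230) 495 0 15 0)) (.split (.inert (.leaf 369) 17 0 561 0) (.inert (.leaf 109) 15 0 495 0) (.inert (.leaf 110) 495 0 15 0)) (.split (.inert (.leaf 98) 17 0 561 0) (.inert (.leaf 326) 15 0 495 0) (.inert (.leaf 324) 495 0 15 0)))) 627 25367 19 25335) (.inert (.inert (.inert (.inert (.inert (.leaf 491) 850022484559 0 26595674607 0) 18 0 594 0) 17 0 561 0) 16 0 528 0) 15 0 495 0) (.inert (.inert (.inert (.inert (.inert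 (.leaf 492) 811767 0 791 0) 594 0 18 0) 561 0 17 0) 528 0 16 0) 495 0 15 0))) 14 0 462 0) 13 0 429 0

/-- A part of the tree. -/
def part6 : Tr := .inert (.inert (.split (.split (.inert (.split (.split (.split (.inert (.leaf 442) 23 0 759 0) (.inert (.leaf 94) 15 0 495 0) (.inert (.leaf 250) 495 0 15 0)) (.split (.inert (.leaf 145) 528 0 16 0) (.inert (.leaf 214) 15 0 495 0) (.inert (.leaf 264) 495 0 15 0)) (.split (.inert (.leaf 176) 16 0 528 0) (.inert (.leaf 218) 15 0 495 0) (.inert (.leaf 265) 495 0 15 0))) (.split (.split (.inert (.leaf 133) 561 0 17 0) (.inert (.leaf 211) 15 0 495 0) (.inert (.leaf 271) 495 0 15 0)) (.split (.inert (.leaf 158) 561 0 17 0) (.inert (.leaf 350) 15 0 495 0) (.inert (.leaf 272) 495 0 15 0)) (.split (.inert (.leaf 188) 561 0 17 0) (.inert (.leaf 349) 15 0 495 0) (.inert (.leaf 273) 495 0 15 0))) (.split (.split (.inert (.leaf 140) 17 0 561 0) (.inert (.leaf 219) 15 0 495 0) (.inert (.leaf 279) 495 0 15 0)) (.split (.inert (.leaf 170) 17 0 561 0) (.inert (.leaf 351) 15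 0 495 0) (.inert (.leaf 280) 495 0 15 0)) (.split (.inert (.leaf 200) 17 0 561 0) (.inert (.leaf 354) 15 0 495 0) (.inert (.leaf 281) 495 0 15 0)))) 19 0 627 0) (.inert (.inert (.inert (.inert (.inert (.leaf 430) 791 0 811767 0) 18 0 594 0) 17 0 561 0) 16 0 528 0) 15 0 495 0) (.inert (.inert (.inert (.inert (.inert (.leaf 399) 25367 0 25335 0) 594 0 18 0) 561 0 17 0) 528 0 16 0) 495 0 15 0)) (.split (.inert (.split (.split (.split (.inert (.leaf 121) 23 0 759 0) (.inert (.leaf 95) 15 0 495 0) (.inert (.leaf 252) 495 0 15 0)) (.split (.inert (.leaf 152) 528 0 16 0) (.inert (.leaf 227) 15 0 495 0) (.inert (.leaf 358) 495 0 15 0)) (.split (.inert (.leaf 195) 16 0 528 0) (.inert (.leaf 231) 15 0 495 0) (.inert (.leaf 359) 495 0 15 0))) (.split (.split (.inert (.leaf 151) 561 0 17 0) (.inert (.leaf 224) 15 0 495 0) (.inert (.leaf 364) 495 0 15 0)) (.split (.inert (.leaf 102) 561 0 17 0) (.inert (.leaf 327) 15 0 495 0) (.inert (.leaf 328) 495 0 15 0)) (.split (.inert (.leaf 370) 561 0 17 0) (.inert (.leaf 105)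 15 0 495 0) (.inert (.leaf 106) 495 0 15 0))) (.split (.split (.inert (.leaf 196) 17 0 561 0) (.inert (.leaf 232) 15 0 495 0) (.inert (.leaf 365) 495 0 15 0)) (.split (.inert (.leaf 374) 17 0 561 0) (.inert (.leaf 103) 15 0 495 0) (.inert (.leaf 104) 495 0 15 0)) (.split (.inert (.leaf 316) 17 0 561 0) (.inert (.leaf 343) 15 0 495 0) (.inert (.leaf 346) 495 0 15 0)))) 19 791 627 811767) (.inert (.inert (.inert (.inert (.inert (.leaf 493) 850123147759 0 26595674703 0) 18 0 594 0) 17 0 561 0) 16 0 528 0) 15 0 495 0) (.inert (.inert (.inert (.inert (.inert (.leaf 494) 25367 0 25335 0) 594 0 18 0) 561 0 17 0) 528 0 16 0) 495 0 15 0)) (.split (.inert (.split (.split (.split (.inert (.leaf 128) 23 0 759 0) (.inert (.leaf 96) 15 0 495 0) (.inert (.leaf 251) 495 0 15 0)) (.split (.inert (.leaf 164) 528 0 16 0) (.inert (.leaf 240) 15 0 495 0) (.inert (.leaf 376) 495 0 15 0)) (.split (.inert (.leaf 184) 16 0 528 0) (.inert (.leaf 244) 15 0 495 0) (.inert (.leaf 377) 495 0 15 0))) (.split (.split (.inert (.leaf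 181) 561 0 17 0) (.inert (.leaf 237) 15 0 495 0) (.inert (.leaf 381) 495 0 15 0)) (.split (.inert (.leaf 390) 561 0 17 0) (.inert (.leaf 111) 15 0 495 0) (.inert (.leaf 112) 495 0 15 0)) (.split (.inert (.leaf 312) 561 0 17 0) (.inert (.leaf 340) 15 0 495 0) (.inert (.leaf 339) 495 0 15 0))) (.split (.split (.inert (.leaf 166) 17 0 561 0) (.inert (.leaf 245) 15 0 495 0) (.inert (.leaf 382) 495 0 15 0)) (.split (.inert (.leaf 310) 17 0 561 0) (.inert (.leaf 334) 15 0 495 0) (.inert (.leaf 331) 495 0 15 0)) (.split (.inert (.leaf 393) 17 0 561 0) (.inert (.leaf 432) 15 0 495 0) (.inert (.leaf 433) 495 0 15 0)))) 19 811767 627 791) (.inert (.inert (.inert (.inert (.inert (.leaf 495) 642639 0 27238300469743 0) 18 0 594 0) 17 0 561 0) 16 0 528 0) 15 0 495 0) (.inert (.inert (.inert (.inert (.inert (.leaf 496) 25367 0 25335 0) 594 0 18 0) 561 0 17 0) 528 0 16 0) 495 0 15 0))) 462 0 14 0) 429 0 13 0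

/-- A part of the tree. -/
def part7 : Tr := .split (.inert (.inert (.split (.split (.split (.inert (.inert (.split (.leaf 445) (.leaf 141) (.leaf 132)) 693 0 21 0) 660 0 20 0) (.inert (.inert (.inert (.leaf 284) 561 0 17 0) 14 0 462 0) 660 0 20 0) (.inert (.inert (.inert (.leaf 293) 17 0 561 0) 462 0 14 0) 660 0 20 0)) (.inert (.inert (.inert (.inert (.leaf 406) 18 0 594 0) 693 0 21 0) 14 0 462 0) 13 0 429 0) (.inert (.inert (.inert (.inert (.leaf 409) 594 0 18 0) 693 0 21 0) 462 0 14 0) 429 0 13 0)) (.split (.split (.inert (.inert (.split (.leaf 179) (.leaf 203) (.leaf 191)) 18 0 594 0) 17 0 561 0) (.inert (.inert (.inert (.leaf 288) 676401 0 657 0) 14 0 462 0) 17 24 561 792) (.inert (.inert (.inert (.leaf 297) 657 0 676401 0) 462 0 14 0) 17 792 561 24)) (.inert (.inert (.inert (.inert (.leaf 407) 690 0 710226 0) 18 792 594 24) 14 0 462 0) 13 0 429 0) (.inert (.inert (.inert (.inert (.leaf 410) 710226 0 690 0) 18 24 594 792) 462 0 14 0) 429 0 13 0)) (.split (.split (.inert (.inert (.split (.leaf 149)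 (.leaf 173) (.leaf 161)) 594 0 18 0) 561 0 17 0) (.inert (.inert (.inert (.leaf 286) 21041 0 21137 0) 14 0 462 0) 561 792 17 24) (.inert (.inert (.inert (.leaf 295) 21137 0 21041 0) 462 0 14 0) 561 24 17 792)) (.inert (.inert (.inert (.inert (.leaf 408) 22194 0 22098 0) 594 24 18 792) 14 0 462 0) 13 0 429 0) (.inert (.inert (.inert (.inert (.leaf 411) 22098 0 22194 0) 594 792 18 24) 462 0 14 0) 429 0 13 0))) 528 0 16 0) 495 0 15 0) (.inert (.inert (.split (.split (.inert (.inert (.inert (.inert (.leaf 427) 22 0 726 0) 24245 0 24309 0) 660 792 20 24) 627 0 19 0) (.inert (.inert (.inert (.inert (.leaf 497) 18 0 594 0) 24245 0 24309 0) 608782 24 541134 0) 13 0 429 0) (.inert (.inert (.inert (.inert (.leaf 498) 594 0 18 0) 24245 0 24309 0) 541134 0 608782 792) 429 0 13 0)) (.split (.inert (.inert (.inert (.inert (.leaf 499) 790 0 811734 0) 18 0 594 0) 17 0 561 0) 608782 0 541134 759) (.inert (.inert (.inert (.inert (.leaf 500) 27201758610958 0 892510546007966158 0) 18 792 594 24) 623393197 791 17316301 0)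 13 0 429 0) (.inert (.inert (.inert (.inert (.leaf 501) 935904449193954002878926 0 851128698382 0) 18 24 594 792) 554121645 0 19481037 25367) 429 0 13 0)) (.split (.inert (.inert (.inert (.inert (.leaf 502) 25366 0 25302 0) 594 0 18 0) 561 0 17 0) 541134 23 608782 0) (.inert (.inert (.inert (.inert (.leaf 503) 892475360528581070 0 27855772339226126 0) 594 24 18 792) 19481037 25335 554121645 0) 13 0 429 0) (.inert (.inert (.inert (.inert (.leaf 504) 890258814948394510 0 891419899192689102 0) 594 792 18 24) 17316301 0 623393197 811767) 429 0 13 0))) 14 0 462 0) 495 0 15 0) (.inert (.inert (.split (.split (.inert (.inert (.inert (.inert (.leaf 428) 726 0 22 0) 777909 0 757 0) 660 24 20 792) 19 0 627 0) (.inert (.inert (.inert (.inert (.leaf 505) 18 0 594 0) 777909 0 757 0) 16910 0 606670 792) 13 0 429 0) (.inert (.inert (.inert (.inert (.leaf 506) 594 0 18 0) 777909 0 757 0) 606670 24 16910 0) 429 0 13 0)) (.split (.inert (.inert (.inert (.inert (.leaf 507) 25302 0 25366 0) 18 0 594 0) 17 0 561 0) 606670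 0 16910 23) (.inert (.inert (.inert (.inert (.leaf 508) 913968026413427114446 0 892475360562168334 0) 18 792 594 24) 541133 0 621230509 811767) 13 0 429 0) (.inert (.inert (.inert (.inert (.leaf 509) 27854670645477902 0 935903295146549522776526 0) 18 24 594 792) 19413453 25335 17316269 0) 429 0 13 0)) (.split (.inert (.inert (.inert (.inert (.leaf 510) 811734 0 790 0) 594 0 18 0) 561 0 17 0) 16910 759 606670 0) (.inert (.inert (.inert (.inert (.leaf 511) 28525471959647568398 0 891419829399503310 0) 594 24 18 792) 17316269 0 19413453 25367) 13 0 429 0) (.inert (.inert (.inert (.inert (.leaf 512) 871555788227022 0 29210084482982155436558 0) 594 792 18 24) 621230509 791 541133 0) 429 0 13 0))) 462 0 14 0) 495 0 15 0)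

/-- A part of the tree. -/
def part8 : Tr := .inert (.inert (.inert (.split (.inert (.split (.inert (.inert (.inert (.leaf 479) 759 0 23 0) 693 24 21 792) 23188 0 23252 0) (.inert (.inert (.inert (.leaf 513) 561 0 17 0) 574958 792 507342 0) 23188 0 23252 0) (.inert (.inert (.inert (.leaf 514) 17 0 561 0) 507342 0 574958 24) 23188 0 23252 0)) 627 0 19 0) (.inert (.split (.inert (.inert (.inert (.leaf 515) 25335 0 25367 0) 18 0 594 0) 17 0 561 0) (.inert (.inert (.inert (.leaf 516) 25335 0 25367 0) 18 0 594 0) 17 24 561 792) (.inert (.inert (.inert (.leaf 517) 25335 0 25367 0) 18 0 594 0) 17 792 561 24)) 574958 0 507342 726) (.inert (.split (.inert (.inert (.inert (.leaf 518) 811767 0 791 0) 594 0 18 0) 561 0 17 0) (.inert (.inert (.inert (.leaf 519) 811767 0 791 0) 594 0 18 0) 561 792 17 24) (.inert (.inert (.inert (.leaf 520) 811767 0 791 0) 594 0 18 0) 561 24 17 792)) 507342 22 574958 0)) 528 0 16 0) 14 0 462 0) 13 0 429 0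

/-- A part of the tree. -/
def part9 : Tr := .inert (.inert (.inert (.split (.inert (.split (.inert (.inert (.inert (.leaf 480) 23 0 759 0) 693 792 21 24) 744084 0 724 0) (.inert (.inert (.inert (.leaf 521) 561 0 17 0) 15854 0 572878 24) 744084 0 724 0) (.inert (.inert (.inert (.leaf 522) 17 0 561 0) 572878 792 15854 0) 744084 0 724 0)) 19 0 627 0) (.inert (.split (.inert (.inert (.inert (.leaf 523) 791 0 811767 0) 18 0 594 0) 17 0 561 0) (.inert (.inert (.inert (.leaf 524) 791 0 811767 0) 18 0 594 0) 17 24 561 792) (.inert (.inert (.inert (.leaf 525) 791 0 811767 0) 18 0 594 0) 17 792 561 24)) 572878 0 15854 22) (.inert (.split (.inert (.inert (.inert (.leaf 526) 25367 0 25335 0) 594 0 18 0) 561 0 17 0) (.inert (.inert (.inert (.leaf 527) 25367 0 25335 0) 594 0 18 0) 561 792 17 24) (.inert (.inert (.inert (.leaf 528) 25367 0 25335 0) 594 0 18 0) 561 24 17 792)) 15854 726 572878 0)) 528 0 16 0) 462 0 14 0) 429 0 13 0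

/-- A part of the tree. -/
def part10 : Tr := .split (.inert (.inert (.split (.split (.split (.inert (.inert (.split (.leaf 446) (.leaf 135) (.leaf 138)) 21 0 693 0) 20 0 660 0) (.inert (.inert (.inert (.leaf 283) 561 0 17 0) 14 0 462 0) 20 0 660 0) (.inert (.inert (.inert (.leaf 294) 17 0 561 0) 462 0 14 0) 20 0 660 0)) (.inert (.inert (.inert (.inert (.leaf 412) 18 0 594 0) 21 0 693 0) 14 0 462 0) 13 0 429 0) (.inert (.inert (.inert (.inert (.leaf 403) 594 0 18 0) 21 0 693 0) 462 0 14 0) 429 0 13 0)) (.split (.split (.inert (.inert (.split (.leaf 148) (.leaf 160) (.leaf 172)) 18 0 594 0) 17 0 561 0) (.inert (.inert (.inert (.leaf 285) 21041 0 21137 0) 14 0 462 0) 17 24 561 792) (.inert (.inert (.inert (.leaf 296) 21137 0 21041 0) 462 0 14 0) 17 792 561 24)) (.inert (.inert (.inert (.inert (.leaf 413) 22194 0 22098 0) 18 792 594 24) 14 0 462 0) 13 0 429 0) (.inert (.inert (.inert (.inert (.leaf 404) 22098 0 22194 0) 18 24 594 792) 462 0 14 0) 429 0 13 0)) (.split (.split (.inert (.inert (.split (.leaf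 178) (.leaf 190) (.leaf 202)) 594 0 18 0) 561 0 17 0) (.inert (.inert (.inert (.leaf 287) 676401 0 657 0) 14 0 462 0) 561 792 17 24) (.inert (.inert (.inert (.leaf 298) 657 0 676401 0) 462 0 14 0) 561 24 17 792)) (.inert (.inert (.inert (.inert (.leaf 414) 690 0 710226 0) 594 24 18 792) 14 0 462 0) 13 0 429 0) (.inert (.inert (.inert (.inert (.leaf 405) 710226 0 690 0) 594 792 18 24) 462 0 14 0) 429 0 13 0))) 16 0 528 0) 15 0 495 0) (.inert (.inert (.split (.split (.inert (.inert (.inert (.inert (.leaf 425) 22 0 726 0) 757 0 777909 0) 20 792 660 24) 627 0 19 0) (.inert (.inert (.inert (.inert (.leaf 529) 18 0 594 0) 757 0 777909 0) 16910 0 606670 792) 13 0 429 0) (.inert (.inert (.inert (.inert (.leaf 530) 594 0 18 0) 757 0 777909 0) 606670 24 16910 0) 429 0 13 0)) (.split (.inert (.inert (.inert (.inert (.leaf 531) 790 0 811734 0) 18 0 594 0) 17 0 561 0) 606670 0 16910 23) (.inert (.inert (.inert (.inert (.leaf 532) 29246977971129574539790 0 871555788227022 0) 18 792 594 24) 541133 0 621230509 811767)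 13 0 429 0) (.inert (.inert (.inert (.inert (.leaf 533) 891419829399503310 0 892510546009047566 0) 18 24 594 792) 19413453 25335 17316269 0) 429 0 13 0)) (.split (.inert (.inert (.inert (.inert (.leaf 534) 25366 0 25302 0) 594 0 18 0) 561 0 17 0) 16910 759 606670 0) (.inert (.inert (.inert (.inert (.leaf 535) 911625026507189567950 0 27854670645477902 0) 594 24 18 792) 17316269 0 19413453 25367) 13 0 429 0) (.inert (.inert (.inert (.inert (.leaf 536) 892475360562168334 0 912815104908820267470 0) 594 792 18 24) 621230509 791 541133 0) 429 0 13 0))) 14 0 462 0) 15 0 495 0) (.inert (.inert (.split (.split (.inert (.inert (.inert (.inert (.leaf 426) 726 0 22 0) 24309 0 24245 0) 20 24 660 792) 19 0 627 0) (.inert (.inert (.inert (.inert (.leaf 537) 18 0 594 0) 24309 0 24245 0) 608782 24 541134 0) 13 0 429 0) (.inert (.inert (.inert (.inert (.leaf 538) 594 0 18 0) 24309 0 24245 0) 541134 0 608782 792) 429 0 13 0)) (.split (.inert (.inert (.inert (.inert (.leaf 539) 25302 0 25366 0) 18 0 594 0) 17 0 561 0) 608782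 0 541134 759) (.inert (.inert (.inert (.inert (.leaf 540) 891419899192689102 0 29247014037379816670734 0) 18 792 594 24) 623393197 791 17316301 0) 13 0 429 0) (.inert (.inert (.inert (.inert (.leaf 541) 28561537111451846158 0 892475360528581070 0) 18 24 594 792) 554121645 0 19481037 25367) 429 0 13 0)) (.split (.inert (.inert (.inert (.inert (.leaf 542) 811734 0 790 0) 594 0 18 0) 561 0 17 0) 541134 23 608782 0) (.inert (.inert (.inert (.inert (.leaf 543) 851128698382 0 912779073911669670350 0) 594 24 18 792) 19481037 25335 554121645 0) 13 0 429 0) (.inert (.inert (.inert (.inert (.leaf 544) 891384646101123534 0 27201758610958 0) 594 792 18 24) 17316301 0 623393197 811767) 429 0 13 0))) 462 0 14 0) 15 0 495 0)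

/-- A part of the tree. -/
def part11 : Tr := .inert (.inert (.inert (.split (.inert (.split (.inert (.inert (.inert (.leaf 478) 759 0 23 0) 21 24 693 792) 724 0 744084 0) (.inert (.inert (.inert (.leaf 545) 561 0 17 0) 15854 0 572878 24) 724 0 744084 0) (.inert (.inert (.inert (.leaf 546) 17 0 561 0) 572878 792 15854 0) 724 0 744084 0)) 627 0 19 0) (.inert (.split (.inert (.inert (.inert (.leaf 547) 25335 0 25367 0) 18 0 594 0) 17 0 561 0) (.inert (.inert (.inert (.leaf 548) 25335 0 25367 0) 18 0 594 0) 17 24 561 792) (.inert (.inert (.inert (.leaf 549) 25335 0 25367 0) 18 0 594 0) 17 792 561 24)) 572878 0 15854 22) (.inert (.split (.inert (.inert (.inert (.leaf 550) 811767 0 791 0) 594 0 18 0) 561 0 17 0) (.inert (.inert (.inert (.leaf 551) 811767 0 791 0) 594 0 18 0) 561 792 17 24) (.inert (.inert (.inert (.leaf 552) 811767 0 791 0) 594 0 18 0) 561 24 17 792)) 15854 726 572878 0)) 16 0 528 0) 14 0 462 0) 13 0 429 0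

/-- A part of the tree. -/
def part12 : Tr := .inert (.inert (.inert (.split (.inert (.split (.inert (.inert (.inert (.leaf 477) 23 0 759 0) 21 792 693 24) 23252 0 23188 0) (.inert (.inert (.inert (.leaf 553) 561 0 17 0) 574958 792 507342 0) 23252 0 23188 0) (.inert (.inert (.inert (.leaf 554) 17 0 561 0) 507342 0 574958 24) 23252 0 23188 0)) 19 0 627 0) (.inert (.split (.inert (.inert (.inert (.leaf 555) 791 0 811767 0) 18 0 594 0) 17 0 561 0) (.inert (.inert (.inert (.leaf 556) 791 0 811767 0) 18 0 594 0) 17 24 561 792) (.inert (.inert (.inert (.leaf 557) 791 0 811767 0) 18 0 594 0) 17 792 561 24)) 574958 0 507342 726) (.inert (.split (.inert (.inert (.inert (.leaf 558) 25367 0 25335 0) 594 0 18 0) 561 0 17 0) (.inert (.inert (.inert (.leaf 559) 25367 0 25335 0) 594 0 18 0) 561 792 17 24) (.inert (.inert (.inert (.leaf 560) 25367 0 25335 0) 594 0 18 0) 561 24 17 792)) 507342 22 574958 0)) 16 0 528 0) 462 0 14 0) 429 0 13 0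

/-- A part of the tree. -/
def part13 : Tr := .split (.inert (.split (.inert (.split (.split (.inert (.split (.inert (.split (.leaf 441) (.leaf 177) (.leaf 144)) 726 0 22 0) (.inert (.inert (.leaf 266) 528 0 16 0) 13 0 429 0) (.inert (.inert (.leaf 299) 16 0 528 0) 429 0 13 0)) 660 0 20 0) (.inert (.inert (.inert (.inert (.leaf 400) 18 0 594 0) 726 0 22 0) 14 0 462 0) 13 0 429 0) (.inert (.inert (.inert (.inert (.leaf 415) 594 0 18 0) 726 0 22 0) 462 0 14 0) 429 0 13 0)) (.split (.inert (.split (.inert (.split (.leaf 143) (.leaf 201) (.leaf 171)) 18 0 594 0) (.inert (.inert (.leaf 282) 676368 0 656 0) 13 0 429 0) (.inert (.inert (.leaf 303) 656 0 676368 0) 429 0 13 0)) 16 0 528 0) (.inert (.inert (.inert (.inert (.leaf 401) 722 0 744018 0) 18 792 594 24) 14 0 462 0) 13 0 429 0) (.inert (.inert (.inert (.inert (.leaf 416) 744018 0 722 0) 18 24 594 792) 462 0 14 0) 429 0 13 0)) (.split (.inert (.split (.inert (.split (.leaf 137) (.leaf 189) (.leaf 159)) 594 0 18 0) (.inert (.inert (.leaf 274) 21008 0 21136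 0) 13 0 429 0) (.inert (.inert (.leaf 301) 21136 0 21008 0) 429 0 13 0)) 528 0 16 0) (.inert (.inert (.inert (.inert (.leaf 402) 23250 0 23122 0) 594 24 18 792) 14 0 462 0) 13 0 429 0) (.inert (.inert (.inert (.inert (.leaf 417) 23122 0 23250 0) 594 792 18 24) 462 0 14 0) 429 0 13 0))) 561 0 17 0) (.inert (.split (.split (.inert (.inert (.inert (.inert (.leaf 423) 21 0 693 0) 24278 0 24310 0) 627 0 19 0) 660 792 20 24) (.inert (.inert (.inert (.inert (.leaf 561) 18 0 594 0) 24278 0 24310 0) 14 0 462 0) 608813 24 574893 0) (.inert (.inert (.inert (.inert (.leaf 562) 594 0 18 0) 24278 0 24310 0) 462 0 14 0) 574893 0 608813 792)) (.split (.inert (.inert (.inert (.inert (.leaf 563) 21 0 693 0) 18 0 594 0) 608813 0 574893 759) 16 0 528 0) (.inert (.inert (.inert (.inert (.leaf 564) 810741 0 25976501 0) 18 792 594 24) 14 0 462 0) 16 0 528 0) (.inert (.inert (.inert (.inert (.leaf 565) 25333 0 831250101 0) 18 24 594 792) 462 0 14 0) 16 0 528 0)) (.split (.inert (.inert (.inert (.inert (.leaf 566) 21 0 693 0)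 594 0 18 0) 574893 23 608813 0) 528 0 16 0) (.inert (.inert (.inert (.inert (.leaf 567) 810741 0 25976501 0) 594 24 18 792) 14 0 462 0) 528 0 16 0) (.inert (.inert (.inert (.inert (.leaf 568) 25333 0 831250101 0) 594 792 18 24) 462 0 14 0) 528 0 16 0))) 13 0 429 0) (.inert (.split (.split (.inert (.inert (.inert (.inert (.leaf 424) 693 0 21 0) 777942 0 758 0) 19 0 627 0) 660 24 20 792) (.inert (.inert (.inert (.inert (.leaf 569) 18 0 594 0) 777942 0 758 0) 14 0 462 0) 17965 0 607661 792) (.inert (.inert (.inert (.inert (.leaf 570) 594 0 18 0) 777942 0 758 0) 462 0 14 0) 607661 24 17965 0)) (.split (.inert (.inert (.inert (.inert (.leaf 571) 693 0 21 0) 18 0 594 0) 607661 0 17965 23) 16 0 528 0) (.inert (.inert (.inert (.inert (.leaf 572) 831250101 0 25333 0) 18 792 594 24) 14 0 462 0) 16 0 528 0) (.inert (.inert (.inert (.inert (.leaf 573) 25976501 0 810741 0) 18 24 594 792) 462 0 14 0) 16 0 528 0)) (.split (.inert (.inert (.inert (.inert (.leaf 574) 693 0 21 0) 594 0 18 0) 17965 759 607661 0) 528 0 16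 0) (.inert (.inert (.inert (.inert (.leaf 575) 831250101 0 25333 0) 594 24 18 792) 14 0 462 0) 528 0 16 0) (.inert (.inert (.inert (.inert (.leaf 576) 25976501 0 810741 0) 594 792 18 24) 462 0 14 0) 528 0 16 0))) 429 0 13 0)) 495 0 15 0) (.inert (.inert (.inert (.split (.inert (.inert (.split (.inert (.inert (.leaf 475) 759 0 23 0) 24278 792 24310 24) (.inert (.inert (.leaf 577) 528 0 16 0) 541165 792 507309 0) (.inert (.inert (.leaf 578) 16 0 528 0) 507309 0 541165 24)) 22164 0 22196 0) 627 0 19 0) (.inert (.inert (.split (.inert (.inert (.leaf 579) 25335 0 25367 0) 18 0 594 0) (.inert (.inert (.leaf 580) 25335 0 25367 0) 18 0 594 0) (.inert (.inert (.leaf 581) 25335 0 25367 0) 18 0 594 0)) 16 0 528 0) 541165 0 507309 693) (.inert (.inert (.split (.inert (.inert (.leaf 582) 811767 0 791 0) 594 0 18 0) (.inert (.inert (.leaf 583) 811767 0 791 0) 594 0 18 0) (.inert (.inert (.leaf 584) 811767 0 791 0) 594 0 18 0)) 528 0 16 0) 507309 21 541165 0)) 18993 0 19025 0) 14 0 462 0) 13 0 429 0) (.inert (.inert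 (.inert (.split (.inert (.inert (.split (.inert (.inert (.leaf 476) 23 0 759 0) 777942 0 758 0) (.inert (.inert (.leaf 585) 528 0 16 0) 15853 0 540077 24) (.inert (.inert (.leaf 586) 16 0 528 0) 540077 792 15853 0)) 710292 0 692 0) 19 0 627 0) (.inert (.inert (.split (.inert (.inert (.leaf 587) 791 0 811767 0) 18 0 594 0) (.inert (.inert (.leaf 588) 791 0 811767 0) 18 0 594 0) (.inert (.inert (.leaf 589) 791 0 811767 0) 18 0 594 0)) 16 0 528 0) 540077 0 15853 21) (.inert (.inert (.split (.inert (.inert (.leaf 590) 25367 0 25335 0) 594 0 18 0) (.inert (.inert (.leaf 591) 25367 0 25335 0) 594 0 18 0) (.inert (.inert (.leaf 592) 25367 0 25335 0) 594 0 18 0)) 528 0 16 0) 15853 693 540077 0)) 608817 0 593 0) 462 0 14 0) 429 0 13 0)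

/-- A part of the tree. -/
def part14 : Tr := .split (.inert (.split (.inert (.split (.split (.inert (.split (.inert (.split (.leaf 120) (.leaf 197) (.leaf 150)) 726 0 22 0) (.inert (.inert (.leaf 360) 17936 0 17968 0) 13 0 429 0) (.inert (.inert (.leaf 366) 17968 0 17936 0) 429 0 13 0)) 660 24278 20 24310) (.inert (.inert (.inert (.inert (.leaf 593) 18 0 594 0) 726 0 22 0) 14 0 462 0) 13 0 429 0) (.inert (.inert (.inert (.inert (.leaf 594) 594 0 18 0) 726 0 22 0) 462 0 14 0) 429 0 13 0)) (.split (.inert (.inert (.inert (.split (.leaf 456) (.leaf 439) (.leaf 464)) 18 0 594 0) 673328 811767 21644816 25367) 17968 22 17936 726) (.inert (.inert (.inert (.inert (.leaf 595) 722 0 744018 0) 18 792 594 24) 14 0 462 0) 13 0 429 0) (.inert (.inert (.inert (.inert (.leaf 596) 744018 0 722 0) 18 24 594 792) 462 0 14 0) 429 0 13 0)) (.split (.inert (.inert (.inert (.split (.leaf 449) (.leaf 461) (.leaf 101)) 594 0 18 0) 673296 25335 21644848 791) 17936 22 17968 726) (.inert (.inert (.inert (.inert (.leaf 597) 23250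 0 23122 0) 594 24 18 792) 14 0 462 0) 13 0 429 0) (.inert (.inert (.inert (.inert (.leaf 598) 23122 0 23250 0) 594 792 18 24) 462 0 14 0) 429 0 13 0))) 528 0 16 0) (.inert (.split (.split (.inert (.inert (.inert (.inert (.leaf 459) 25942741 0 26600004277 0) 810710 0 25976566 0) 627 0 19 0) 660 25976534 20 810742) (.inert (.inert (.inert (.inert (.leaf 599) 18 0 594 0) 810710 0 25976566 0) 14 0 462 0) 525 0 541101 0) (.inert (.inert (.inert (.inert (.leaf 600) 594 0 18 0) 810710 0 25976566 0) 462 0 14 0) 541101 0 525 0)) (.split (.inert (.inert (.inert (.inert (.leaf 601) 25942741 0 26600004277 0) 18 0 594 0) 18989 23 19449261 23) 525 0 541101 0) (.inert (.inert (.inert (.inert (.leaf 602) 25942741 0 26600004277 0) 18 792 594 24) 14 0 462 0) 541101 0 525 0) (.inert (.inert (.inert (.inert (.leaf 603) 830200533 0 831249077 0) 18 24 594 792) 462 0 14 0) 607792 810742 19482128 25976534)) (.split (.inert (.inert (.inert (.inert (.leaf 604) 25942741 0 26600004277 0) 594 0 18 0) 19449261 759 18989 759) 541101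 0 525 0) (.inert (.inert (.inert (.inert (.leaf 605) 809685 0 25975477 0) 594 24 18 792) 14 0 462 0) 19482128 810742 607792 25976534) (.inert (.inert (.inert (.inert (.leaf 606) 809685 0 25975477 0) 594 792 18 24) 462 0 14 0) 525 0 541101 0))) 13 0 429 0) (.inert (.split (.split (.inert (.inert (.inert (.inert (.leaf 460) 831249077 0 830200533 0) 25943766 0 811766 0) 19 0 627 0) 660 810710 20 25976566) (.inert (.inert (.inert (.inert (.leaf 607) 18 0 594 0) 25943766 0 811766 0) 14 0 462 0) 16909 0 16813 0) (.inert (.inert (.inert (.inert (.leaf 608) 594 0 18 0) 25943766 0 811766 0) 462 0 14 0) 16813 0 16909 0)) (.split (.inert (.inert (.inert (.inert (.leaf 609) 831249077 0 830200533 0) 18 0 594 0) 19482029 759 19482157 759) 16813 0 16909 0) (.inert (.inert (.inert (.inert (.leaf 610) 25975477 0 809685 0) 18 792 594 24) 14 0 462 0) 19482160 25334 607760 831250134) (.inert (.inert (.inert (.inert (.leaf 611) 25975477 0 809685 0) 18 24 594 792) 462 0 14 0) 16909 0 16813 0)) (.split (.inert (.inert (.inert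 (.inert (.leaf 612) 831249077 0 830200533 0) 594 0 18 0) 19482157 23 19482029 23) 16909 0 16813 0) (.inert (.inert (.inert (.inert (.leaf 613) 831249077 0 830200533 0) 594 24 18 792) 14 0 462 0) 16813 0 16909 0) (.inert (.inert (.inert (.inert (.leaf 614) 26600004277 0 25942741 0) 594 792 18 24) 462 0 14 0) 607760 25334 19482160 831250134))) 429 0 13 0)) 495 18993 15 19025) (.inert (.inert (.inert (.split (.inert (.inert (.split (.inert (.inert (.leaf 615) 26600004309 0 25942709 0) 25302 24 25366 792) (.inert (.inert (.leaf 616) 607760 0 19482160 0) 19915095501 792 18773129645 0) (.inert (.inert (.leaf 617) 19482160 0 607760 0) 20428457720237 0 19915095501 24)) 829118100 25976534 831215284 810742) 627 0 19 0) (.inert (.inert (.inert (.inert (.inert (.leaf 618) 25335 0 25367 0) 18 0 594 0) 21562329086381 791 796754602114509 792) 19482160 758 607760 777942) 19915095501 22 18773129645 830200501) (.inert (.inert (.inert (.inert (.inert (.leaf 619) 811767 0 791 0) 594 0 18 0) 871592398243344 792 27820586925901360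 0) 607760 758 19482160 777942) 20428457720237 25975509 19915095501 726)) 519518637 0 20428525944269 0) 14 0 462 0) 13 0 429 0) (.inert (.inert (.inert (.split (.inert (.inert (.split (.inert (.inert (.leaf 620) 25942709 0 26600004309 0) 24278 24 24310 792) (.inert (.inert (.leaf 621) 607760 0 19482160 0) 507341 0 20428491274669 24) (.inert (.inert (.leaf 622) 19482160 0 607760 0) 20428491274669 792 19381709 0)) 815732020884 777942 776884 758) 19 0 627 0) (.inert (.inert (.inert (.inert (.inert (.leaf 623) 791 0 811767 0) 18 0 594 0) 25566516045397453 792 29948942335924831746734509 759) 19482160 758 607760 777942) 20428491274669 759 19381709 25976533) (.inert (.inert (.inert (.inert (.inert (.leaf 624) 25367 0 25335 0) 594 0 18 0) 814622524944 25335 29247014037380923999792 791) 607760 758 19482160 777942) 507341 830167733 20428491274669 23)) 608817 0 593 0) 462 0 14 0) 429 0 13 0)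

/-- A part of the tree. -/
def part15 : Tr := .split (.inert (.split (.inert (.split (.split (.inert (.split (.inert (.split (.leaf 126) (.leaf 185) (.leaf 162)) 726 0 22 0) (.inert (.inert (.leaf 386) 574992 0 560 0) 13 0 429 0) (.inert (.inert (.leaf 375) 560 0 574992 0) 429 0 13 0)) 660 24310 20 24278) (.inert (.inert (.inert (.inert (.leaf 625) 18 0 594 0) 726 0 22 0) 14 0 462 0) 13 0 429 0) (.inert (.inert (.inert (.inert (.leaf 626) 594 0 18 0) 726 0 22 0) 462 0 14 0) 429 0 13 0)) (.split (.inert (.inert (.inert (.split (.leaf 452) (.leaf 472) (.leaf 431)) 18 0 594 0) 692635152 25335 21040 791) 560 726 574992 22) (.inert (.inert (.inert (.inert (.leaf 627) 722 0 744018 0) 18 792 594 24) 14 0 462 0) 13 0 429 0) (.inert (.inert (.inert (.inert (.leaf 628) 744018 0 722 0) 18 24 594 792) 462 0 14 0) 429 0 13 0)) (.split (.inert (.inert (.inert (.split (.leaf 453) (.leaf 438) (.leaf 469)) 594 0 18 0) 676400 811767 21546512 25367) 574992 726 560 22) (.inert (.inert (.inert (.inert (.leaf 629) 23250 0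 23122 0) 594 24 18 792) 14 0 462 0) 13 0 429 0) (.inert (.inert (.inert (.inert (.leaf 630) 23122 0 23250 0) 594 792 18 24) 462 0 14 0) 429 0 13 0))) 16 0 528 0) (.inert (.split (.split (.inert (.inert (.inert (.inert (.leaf 466) 25943765 0 26599971509 0) 25976534 0 810742 0) 627 0 19 0) 660 25976566 20 810710) (.inert (.inert (.inert (.inert (.leaf 631) 18 0 594 0) 25976534 0 810742 0) 14 0 462 0) 16909 0 16813 0) (.inert (.inert (.inert (.inert (.leaf 632) 594 0 18 0) 25976534 0 810742 0) 462 0 14 0) 16813 0 16909 0)) (.split (.inert (.inert (.inert (.inert (.leaf 633) 25943765 0 26599971509 0) 18 0 594 0) 18989 23 19449261 23) 16813 0 16909 0) (.inert (.inert (.inert (.inert (.leaf 634) 810709 0 851200137909 0) 18 792 594 24) 14 0 462 0) 608816 810710 19449360 25976566) (.inert (.inert (.inert (.inert (.leaf 635) 25943765 0 26599971509 0) 18 24 594 792) 462 0 14 0) 16909 0 16813 0)) (.split (.inert (.inert (.inert (.inert (.leaf 636) 25943765 0 26599971509 0) 594 0 18 0) 19449261 759 18989 759) 16909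 0 16813 0) (.inert (.inert (.inert (.inert (.leaf 637) 25301 0 831216309 0) 594 24 18 792) 14 0 462 0) 16813 0 16909 0) (.inert (.inert (.inert (.inert (.leaf 638) 25301 0 831216309 0) 594 792 18 24) 462 0 14 0) 19449360 810710 608816 25976566))) 13 0 429 0) (.inert (.split (.split (.inert (.inert (.inert (.inert (.leaf 465) 851200137909 0 810709 0) 831250134 0 25334 0) 19 0 627 0) 660 810742 20 25976534) (.inert (.inert (.inert (.inert (.leaf 639) 18 0 594 0) 831250134 0 25334 0) 14 0 462 0) 525 0 541101 0) (.inert (.inert (.inert (.inert (.leaf 640) 594 0 18 0) 831250134 0 25334 0) 462 0 14 0) 541101 0 525 0)) (.split (.inert (.inert (.inert (.inert (.leaf 641) 851200137909 0 810709 0) 18 0 594 0) 19482029 759 19482157 759) 525 0 541101 0) (.inert (.inert (.inert (.inert (.leaf 642) 831216309 0 25301 0) 18 792 594 24) 14 0 462 0) 541101 0 525 0) (.inert (.inert (.inert (.inert (.leaf 643) 831216309 0 25301 0) 18 24 594 792) 462 0 14 0) 18992 25943766 623429136 811766)) (.split (.inert (.inert (.inert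 (.inert (.leaf 644) 851200137909 0 810709 0) 594 0 18 0) 19482157 23 19482029 23) 541101 0 525 0) (.inert (.inert (.inert (.inert (.leaf 645) 26599971509 0 25943765 0) 594 24 18 792) 14 0 462 0) 623429136 25943766 18992 811766) (.inert (.inert (.inert (.inert (.leaf 646) 851200137909 0 810709 0) 594 792 18 24) 462 0 14 0) 525 0 541101 0))) 429 0 13 0)) 495 19025 15 18993) (.inert (.inert (.inert (.split (.inert (.inert (.split (.inert (.inert (.leaf 647) 25943765 0 26599971509 0) 25943766 0 811766 0) (.inert (.inert (.leaf 648) 19449360 0 608816 0) 602923317709 792 20428524861869 0) (.inert (.inert (.leaf 649) 608816 0 19449360 0) 20428524861869 0 20394132617677 24)) 830167700 758 831250132 777942) 627 0 19 0) (.inert (.inert (.inert (.inert (.inert (.leaf 650) 25335 0 25367 0) 18 0 594 0) 958366155939706001835932109 25335 29948942338177731072080301 24) 608816 24278 19449360 24310) 602923317709 777942 20428524861869 851200137909) (.inert (.inert (.inert (.inert (.inert (.leaf 651) 811767 0 791 0) 594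 0 18 0) 870493926804016 792 26103354279440 792) 19449360 24278 608816 24310) 20428524861869 810709 20394132617677 24310)) 637283056077 0 19947567533 0) 14 0 462 0) 13 0 429 0) (.inert (.inert (.inert (.split (.inert (.inert (.split (.inert (.inert (.leaf 652) 810709 0 851200137909 0) 24278 24 24310 792) (.inert (.inert (.leaf 653) 623429136 0 18992 0) 16234957 0 637316610477 24) (.inert (.inert (.leaf 654) 18992 0 623429136 0) 637316610477 792 19947567565 0)) 795530900 758 796613300 777942) 19 0 627 0) (.inert (.inert (.inert (.inert (.inert (.leaf 655) 791 0 811767 0) 18 0 594 0) 21056960941 25367 796718060255693 24) 18992 777942 623429136 758) 637316610477 23 19947567565 830200533) (.inert (.inert (.inert (.inert (.inert (.leaf 656) 25367 0 25335 0) 594 0 18 0) 870492886682160 811767 855357018388088336 25367) 623429136 777942 18992 758) 16234957 26600004277 637316610477 759)) 608817 0 593 0) 462 0 14 0) 429 0 13 0)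

/-- A part of the tree. -/
def part16 : Tr := .split (.inert (.split (.inert (.split (.split (.inert (.split (.inert (.split (.leaf 444) (.leaf 147) (.leaf 174)) 22 0 726 0) (.inert (.inert (.leaf 261) 528 0 16 0) 13 0 429 0) (.inert (.inert (.leaf 300) 16 0 528 0) 429 0 13 0)) 20 0 660 0) (.inert (.inert (.inert (.inert (.leaf 418) 18 0 594 0) 22 0 726 0) 14 0 462 0) 13 0 429 0) (.inert (.inert (.inert (.inert (.leaf 395) 594 0 18 0) 22 0 726 0) 462 0 14 0) 429 0 13 0)) (.split (.inert (.split (.inert (.split (.leaf 136) (.leaf 156) (.leaf 186)) 18 0 594 0) (.inert (.inert (.leaf 267) 21008 0 21136 0) 13 0 429 0) (.inert (.inert (.leaf 302) 21136 0 21008 0) 429 0 13 0)) 16 0 528 0) (.inert (.inert (.inert (.inert (.leaf 419) 23250 0 23122 0) 18 792 594 24) 14 0 462 0) 13 0 429 0) (.inert (.inert (.inert (.inert (.leaf 396) 23122 0 23250 0) 18 24 594 792) 462 0 14 0) 429 0 13 0)) (.split (.inert (.split (.inert (.split (.leaf 142) (.leaf 168) (.leaf 198)) 594 0 18 0) (.inert (.inert (.leaf 275) 676368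 0 656 0) 13 0 429 0) (.inert (.inert (.leaf 304) 656 0 676368 0) 429 0 13 0)) 528 0 16 0) (.inert (.inert (.inert (.inert (.leaf 420) 722 0 744018 0) 594 24 18 792) 14 0 462 0) 13 0 429 0) (.inert (.inert (.inert (.inert (.leaf 397) 744018 0 722 0) 594 792 18 24) 462 0 14 0) 429 0 13 0))) 17 0 561 0) (.inert (.split (.split (.inert (.inert (.inert (.inert (.leaf 421) 21 0 693 0) 758 0 777942 0) 627 0 19 0) 20 792 660 24) (.inert (.inert (.inert (.inert (.leaf 657) 18 0 594 0) 758 0 777942 0) 14 0 462 0) 17965 0 607661 792) (.inert (.inert (.inert (.inert (.leaf 658) 594 0 18 0) 758 0 777942 0) 462 0 14 0) 607661 24 17965 0)) (.split (.inert (.inert (.inert (.inert (.leaf 659) 21 0 693 0) 18 0 594 0) 607661 0 17965 23) 16 0 528 0) (.inert (.inert (.inert (.inert (.leaf 660) 810741 0 25976501 0) 18 792 594 24) 14 0 462 0) 16 0 528 0) (.inert (.inert (.inert (.inert (.leaf 661) 25333 0 831250101 0) 18 24 594 792) 462 0 14 0) 16 0 528 0)) (.split (.inert (.inert (.inert (.inert (.leaf 662) 21 0 693 0) 594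 0 18 0) 17965 759 607661 0) 528 0 16 0) (.inert (.inert (.inert (.inert (.leaf 663) 810741 0 25976501 0) 594 24 18 792) 14 0 462 0) 528 0 16 0) (.inert (.inert (.inert (.inert (.leaf 664) 25333 0 831250101 0) 594 792 18 24) 462 0 14 0) 528 0 16 0))) 13 0 429 0) (.inert (.split (.split (.inert (.inert (.inert (.inert (.leaf 422) 693 0 21 0) 24310 0 24278 0) 19 0 627 0) 20 24 660 792) (.inert (.inert (.inert (.inert (.leaf 665) 18 0 594 0) 24310 0 24278 0) 14 0 462 0) 608813 24 574893 0) (.inert (.inert (.inert (.inert (.leaf 666) 594 0 18 0) 24310 0 24278 0) 462 0 14 0) 574893 0 608813 792)) (.split (.inert (.inert (.inert (.inert (.leaf 667) 693 0 21 0) 18 0 594 0) 608813 0 574893 759) 16 0 528 0) (.inert (.inert (.inert (.inert (.leaf 668) 831250101 0 25333 0) 18 792 594 24) 14 0 462 0) 16 0 528 0) (.inert (.inert (.inert (.inert (.leaf 669) 25976501 0 810741 0) 18 24 594 792) 462 0 14 0) 16 0 528 0)) (.split (.inert (.inert (.inert (.inert (.leaf 670) 693 0 21 0) 594 0 18 0) 574893 23 608813 0) 528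 0 16 0) (.inert (.inert (.inert (.inert (.leaf 671) 831250101 0 25333 0) 594 24 18 792) 14 0 462 0) 528 0 16 0) (.inert (.inert (.inert (.inert (.leaf 672) 25976501 0 810741 0) 594 792 18 24) 462 0 14 0) 528 0 16 0))) 429 0 13 0)) 15 0 495 0) (.inert (.inert (.inert (.split (.inert (.inert (.split (.inert (.inert (.leaf 474) 759 0 23 0) 758 792 777942 24) (.inert (.inert (.leaf 673) 528 0 16 0) 15853 0 540077 24) (.inert (.inert (.leaf 674) 16 0 528 0) 540077 792 15853 0)) 692 0 710292 0) 627 0 19 0) (.inert (.inert (.split (.inert (.inert (.leaf 675) 25335 0 25367 0) 18 0 594 0) (.inert (.inert (.leaf 676) 25335 0 25367 0) 18 0 594 0) (.inert (.inert (.leaf 677) 25335 0 25367 0) 18 0 594 0)) 16 0 528 0) 540077 0 15853 21) (.inert (.inert (.split (.inert (.inert (.leaf 678) 811767 0 791 0) 594 0 18 0) (.inert (.inert (.leaf 679) 811767 0 791 0) 594 0 18 0) (.inert (.inert (.leaf 680) 811767 0 791 0) 594 0 18 0)) 528 0 16 0) 15853 693 540077 0)) 593 0 608817 0) 14 0 462 0) 13 0 429 0) (.inert (.inert (.inert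 (.split (.inert (.inert (.split (.inert (.inert (.leaf 473) 23 0 759 0) 24310 0 24278 0) (.inert (.inert (.leaf 681) 528 0 16 0) 541165 792 507309 0) (.inert (.inert (.leaf 682) 16 0 528 0) 507309 0 541165 24)) 22196 0 22164 0) 19 0 627 0) (.inert (.inert (.split (.inert (.inert (.leaf 683) 791 0 811767 0) 18 0 594 0) (.inert (.inert (.leaf 684) 791 0 811767 0) 18 0 594 0) (.inert (.inert (.leaf 685) 791 0 811767 0) 18 0 594 0)) 16 0 528 0) 541165 0 507309 693) (.inert (.inert (.split (.inert (.inert (.leaf 686) 25367 0 25335 0) 594 0 18 0) (.inert (.inert (.leaf 687) 25367 0 25335 0) 594 0 18 0) (.inert (.inert (.leaf 688) 25367 0 25335 0) 594 0 18 0)) 528 0 16 0) 507309 21 541165 0)) 19025 0 18993 0) 462 0 14 0) 429 0 13 0)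

/-- A part of the tree. -/
def part17 : Tr := .split (.inert (.split (.inert (.split (.split (.inert (.split (.inert (.split (.leaf 129) (.leaf 167) (.leaf 180)) 22 0 726 0) (.inert (.inert (.leaf 385) 574992 0 560 0) 13 0 429 0) (.inert (.inert (.leaf 380) 560 0 574992 0) 429 0 13 0)) 20 758 660 777942) (.inert (.inert (.inert (.inert (.leaf 689) 18 0 594 0) 22 0 726 0) 14 0 462 0) 13 0 429 0) (.inert (.inert (.inert (.inert (.leaf 690) 594 0 18 0) 22 0 726 0) 462 0 14 0) 429 0 13 0)) (.split (.inert (.inert (.inert (.split (.leaf 454) (.leaf 470) (.leaf 437)) 18 0 594 0) 21546512 791 676400 25335) 560 726 574992 22) (.inert (.inert (.inert (.inert (.leaf 691) 23250 0 23122 0) 18 792 594 24) 14 0 462 0) 13 0 429 0) (.inert (.inert (.inert (.inert (.leaf 692) 23122 0 23250 0) 18 24 594 792) 462 0 14 0) 429 0 13 0)) (.split (.inert (.inert (.inert (.split (.leaf 451) (.leaf 436) (.leaf 471)) 594 0 18 0) 21040 25367 692635152 811767) 574992 726 560 22) (.inert (.inert (.inert (.inert (.leaf 693) 722 0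 744018 0) 594 24 18 792) 14 0 462 0) 13 0 429 0) (.inert (.inert (.inert (.inert (.leaf 694) 744018 0 722 0) 594 792 18 24) 462 0 14 0) 429 0 13 0))) 528 0 16 0) (.inert (.split (.split (.inert (.inert (.inert (.inert (.leaf 468) 810709 0 851200137909 0) 25334 0 831250134 0) 627 0 19 0) 20 811766 660 25943766) (.inert (.inert (.inert (.inert (.leaf 695) 18 0 594 0) 25334 0 831250134 0) 14 0 462 0) 525 0 541101 0) (.inert (.inert (.inert (.inert (.leaf 696) 594 0 18 0) 25334 0 831250134 0) 462 0 14 0) 541101 0 525 0)) (.split (.inert (.inert (.inert (.inert (.leaf 697) 810709 0 851200137909 0) 18 0 594 0) 19482029 759 19482157 759) 525 0 541101 0) (.inert (.inert (.inert (.inert (.leaf 698) 810709 0 851200137909 0) 18 792 594 24) 14 0 462 0) 541101 0 525 0) (.inert (.inert (.inert (.inert (.leaf 699) 25943765 0 26599971509 0) 18 24 594 792) 462 0 14 0) 18992 25943766 623429136 811766)) (.split (.inert (.inert (.inert (.inert (.leaf 700) 810709 0 851200137909 0) 594 0 18 0) 19482157 23 19482029 23) 541101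 0 525 0) (.inert (.inert (.inert (.inert (.leaf 701) 25301 0 831216309 0) 594 24 18 792) 14 0 462 0) 623429136 25943766 18992 811766) (.inert (.inert (.inert (.inert (.leaf 702) 25301 0 831216309 0) 594 792 18 24) 462 0 14 0) 525 0 541101 0))) 13 0 429 0) (.inert (.split (.split (.inert (.inert (.inert (.inert (.leaf 467) 26599971509 0 25943765 0) 810742 0 25976534 0) 19 0 627 0) 20 25334 660 831250134) (.inert (.inert (.inert (.inert (.leaf 703) 18 0 594 0) 810742 0 25976534 0) 14 0 462 0) 16909 0 16813 0) (.inert (.inert (.inert (.inert (.leaf 704) 594 0 18 0) 810742 0 25976534 0) 462 0 14 0) 16813 0 16909 0)) (.split (.inert (.inert (.inert (.inert (.leaf 705) 26599971509 0 25943765 0) 18 0 594 0) 18989 23 19449261 23) 16813 0 16909 0) (.inert (.inert (.inert (.inert (.leaf 706) 831216309 0 25301 0) 18 792 594 24) 14 0 462 0) 608816 810710 19449360 25976566) (.inert (.inert (.inert (.inert (.leaf 707) 831216309 0 25301 0) 18 24 594 792) 462 0 14 0) 16909 0 16813 0)) (.split (.inert (.inert (.inert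 (.inert (.leaf 708) 26599971509 0 25943765 0) 594 0 18 0) 19449261 759 18989 759) 16909 0 16813 0) (.inert (.inert (.inert (.inert (.leaf 709) 26599971509 0 25943765 0) 594 24 18 792) 14 0 462 0) 16813 0 16909 0) (.inert (.inert (.inert (.inert (.leaf 710) 851200137909 0 810709 0) 594 792 18 24) 462 0 14 0) 19449360 810710 608816 25976566))) 429 0 13 0)) 15 593 495 608817) (.inert (.inert (.inert (.split (.inert (.inert (.split (.inert (.inert (.leaf 711) 851200137909 0 810709 0) 758 792 777942 24) (.inert (.inert (.leaf 712) 623429136 0 18992 0) 586660301 0 587708845 24) (.inert (.inert (.leaf 713) 18992 0 623429136 0) 587708845 792 638389303757 0)) 776884 758 815732020884 777942) 627 0 19 0) (.inert (.inert (.inert (.inert (.inert (.leaf 714) 25335 0 25367 0) 18 0 594 0) 690032179919309 0 29247013965841698372013 25335) 18992 777942 623429136 758) 587708845 24310 638389303757 831250133) (.inert (.inert (.inert (.inert (.inert (.leaf 715) 811767 0 791 0) 594 0 18 0) 25456953904 811767 29210084485217686963728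 25367) 623429136 777942 18992 758) 586660301 26566417077 587708845 24278)) 637316610477 0 19947567565 0) 14 0 462 0) 13 0 429 0) (.inert (.inert (.inert (.split (.inert (.inert (.split (.inert (.inert (.leaf 716) 26599971509 0 25943765 0) 25334 24 831250134 792) (.inert (.inert (.leaf 717) 19449360 0 608816 0) 637283056077 792 19947567533 0) (.inert (.inert (.leaf 718) 608816 0 19449360 0) 16234925 0 637283056077 24)) 796612276 24310 795563668 24278) 19 0 627 0) (.inert (.inert (.inert (.inert (.inert (.leaf 719) 791 0 811767 0) 18 0 594 0) 26180112430520580525 24 912777948011762792909 23) 608816 24278 19449360 24310) 637283056077 23 19947567533 830200501) (.inert (.inert (.inert (.inert (.inert (.leaf 720) 25367 0 25335 0) 594 0 18 0) 835308514527792 25367 891385815474161168 811767) 19449360 24278 608816 24310) 16234925 26600004309 637283056077 759)) 19025 0 18993 0) 462 0 14 0) 429 0 13 0)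

/-- A part of the tree. -/
def part18 : Tr := .split (.inert (.split (.inert (.split (.split (.inert (.split (.inert (.split (.leaf 123) (.leaf 155) (.leaf 192)) 22 0 726 0) (.inert (.inert (.leaf 355) 17936 0 17968 0) 13 0 429 0) (.inert (.inert (.leaf 361) 17968 0 17936 0) 429 0 13 0)) 20 777942 660 758) (.inert (.inert (.inert (.inert (.leaf 721) 18 0 594 0) 22 0 726 0) 14 0 462 0) 13 0 429 0) (.inert (.inert (.inert (.inert (.leaf 722) 594 0 18 0) 22 0 726 0) 462 0 14 0) 429 0 13 0)) (.split (.inert (.inert (.inert (.split (.leaf 450) (.leaf 113) (.leaf 462)) 18 0 594 0) 21644848 25367 673296 811767) 17968 22 17936 726) (.inert (.inert (.inert (.inert (.leaf 723) 23250 0 23122 0) 18 792 594 24) 14 0 462 0) 13 0 429 0) (.inert (.inert (.inert (.inert (.leaf 724) 23122 0 23250 0) 18 24 594 792) 462 0 14 0) 429 0 13 0)) (.split (.inert (.inert (.inert (.split (.leaf 455) (.leaf 463) (.leaf 440)) 594 0 18 0) 21644816 791 673328 25335) 17936 22 17968 726) (.inert (.inert (.inert (.inert (.leaf 725) 722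 0 744018 0) 594 24 18 792) 14 0 462 0) 13 0 429 0) (.inert (.inert (.inert (.inert (.leaf 726) 744018 0 722 0) 594 792 18 24) 462 0 14 0) 429 0 13 0))) 16 0 528 0) (.inert (.split (.split (.inert (.inert (.inert (.inert (.leaf 457) 830200533 0 831249077 0) 811766 0 25943766 0) 627 0 19 0) 20 831250134 660 25334) (.inert (.inert (.inert (.inert (.leaf 727) 18 0 594 0) 811766 0 25943766 0) 14 0 462 0) 16909 0 16813 0) (.inert (.inert (.inert (.inert (.leaf 728) 594 0 18 0) 811766 0 25943766 0) 462 0 14 0) 16813 0 16909 0)) (.split (.inert (.inert (.inert (.inert (.leaf 729) 830200533 0 831249077 0) 18 0 594 0) 19482029 759 19482157 759) 16813 0 16909 0) (.inert (.inert (.inert (.inert (.leaf 730) 25942741 0 26600004277 0) 18 792 594 24) 14 0 462 0) 19482160 25334 607760 831250134) (.inert (.inert (.inert (.inert (.leaf 731) 830200533 0 831249077 0) 18 24 594 792) 462 0 14 0) 16909 0 16813 0)) (.split (.inert (.inert (.inert (.inert (.leaf 732) 830200533 0 831249077 0) 594 0 18 0) 19482157 23 19482029 23)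 16909 0 16813 0) (.inert (.inert (.inert (.inert (.leaf 733) 809685 0 25975477 0) 594 24 18 792) 14 0 462 0) 16813 0 16909 0) (.inert (.inert (.inert (.inert (.leaf 734) 809685 0 25975477 0) 594 792 18 24) 462 0 14 0) 607760 25334 19482160 831250134))) 13 0 429 0) (.inert (.split (.split (.inert (.inert (.inert (.inert (.leaf 458) 26600004277 0 25942741 0) 25976566 0 810710 0) 19 0 627 0) 20 25943766 660 811766) (.inert (.inert (.inert (.inert (.leaf 735) 18 0 594 0) 25976566 0 810710 0) 14 0 462 0) 525 0 541101 0) (.inert (.inert (.inert (.inert (.leaf 736) 594 0 18 0) 25976566 0 810710 0) 462 0 14 0) 541101 0 525 0)) (.split (.inert (.inert (.inert (.inert (.leaf 737) 26600004277 0 25942741 0) 18 0 594 0) 18989 23 19449261 23) 525 0 541101 0) (.inert (.inert (.inert (.inert (.leaf 738) 25975477 0 809685 0) 18 792 594 24) 14 0 462 0) 541101 0 525 0) (.inert (.inert (.inert (.inert (.leaf 739) 25975477 0 809685 0) 18 24 594 792) 462 0 14 0) 607792 810742 19482128 25976534)) (.split (.inert (.inert (.inert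 (.inert (.leaf 740) 26600004277 0 25942741 0) 594 0 18 0) 19449261 759 18989 759) 541101 0 525 0) (.inert (.inert (.inert (.inert (.leaf 741) 831249077 0 830200533 0) 594 24 18 792) 14 0 462 0) 19482128 810742 607792 25976534) (.inert (.inert (.inert (.inert (.leaf 742) 26600004277 0 25942741 0) 594 792 18 24) 462 0 14 0) 525 0 541101 0))) 429 0 13 0)) 15 608817 495 593) (.inert (.inert (.inert (.split (.inert (.inert (.split (.inert (.inert (.leaf 743) 830200501 0 831249109 0) 811766 792 25943766 24) (.inert (.inert (.leaf 744) 19482128 0 607792 0) 19916111309 0 653712829135277 24) (.inert (.inert (.leaf 745) 607792 0 19482128 0) 602922236333 792 19916111309 0)) 810708 24278 851200137876 24310) 627 0 19 0) (.inert (.inert (.inert (.inert (.inert (.leaf 746) 25335 0 25367 0) 18 0 594 0) 29909943577045984756578733 25367 912777877608658877901 792) 607792 24310 19482128 24278) 602922236333 24278 19916111309 25942741) (.inert (.inert (.inert (.inert (.inert (.leaf 747) 811767 0 791 0) 594 0 18 0) 28561537144770348560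 791 850089559600 25335) 19482128 24310 607792 24278) 19916111309 26600004277 653712829135277 758)) 507341 0 20428491274669 0) 14 0 462 0) 13 0 429 0) (.inert (.inert (.inert (.split (.inert (.inert (.split (.inert (.inert (.leaf 748) 831249109 0 830200501 0) 25334 24 831250134 792) (.inert (.inert (.leaf 749) 19482128 0 607792 0) 20428525944269 792 19846871469 0) (.inert (.inert (.leaf 750) 607792 0 19482128 0) 519518637 0 20428525944269 24)) 795563700 24278 796612244 24310) 19 0 627 0) (.inert (.inert (.inert (.inert (.inert (.leaf 751) 791 0 811767 0) 18 0 594 0) 658030029 25335 815839294776621485 792) 607792 24310 19482128 24278) 20428525944269 759 19846871469 26599971509) (.inert (.inert (.inert (.inert (.inert (.leaf 752) 25367 0 25335 0) 594 0 18 0) 28561537110410610192 791 834209002898992 25335) 19482128 24310 607792 24278) 519518637 810709 20428525944269 23)) 19025 0 18993 0) 462 0 14 0) 429 0 13 0)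

/-- The tree. -/
def tree : Tr := .split (.split (.split (.split (.split (part0) (part1) (part2)) (part3) (part4)) (part5) (part6)) (.split (part7) (part8) (part9)) (.split (part10) (part11) (part12))) (.split (part13) (part14) (part15)) (.split (part16) (part17) (part18))

end Cfsg.Agent.Fus.D4Classes
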