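import Cfsg.Agent.Lib.Fus.D4Classes.Code

/-!
Words in the twenty-four root elements of `Ω⁺₈(3)` and of `PΩ⁺₈(3)`.
-/

set_option autoImplicit false
set_option maxRecDepth 20000

namespace Cfsg.Agent.Fus.D4Classes

open Cfsg Cfsg.Lie Matrix Cfsg.Agent.Classical Cfsg.Agent.Classical.OrthAut Cfsg.Agent.Lie.Chev
open Cfsg.Agent.Lie.Chev.IsoD4 (root tab)
open Cfsg.Agent.Spor.Cos (force force_eq)

/-- The two row operations of a root element. -/
def ops (r : ℕ) : (I8 × I8 × Bool) × (I8 × I8 × Bool) :=
  ((((tab r).2.1, (tab r).1.swap, decide ((tab r).2.2 < 0))),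
    ((tab r).1, (tab r).2.1.swap, decide (0 < (tab r).2.2)))

theorem trans_ops : ∀ r : Fin 24,
    trans (ops r).1.1 (ops r).1.2.1 (ops r).1.2.2 * trans (ops r).2.1 (ops r).2.2.1 (ops r).2.2.2 =
      1 + Lie.OrthGen.toM F3 (IsoD4.ent r) := by decide +kernel

/-- The rows and sign of the operations. -/
def opsN : List ((ℕ × ℕ × Bool) × (ℕ × ℕ × Bool)) :=
  (List.range 24).map fun r => ((pos (ops r).1.1, pos (ops r).1.2.1, (ops r).1.2.2),
    (pos (ops r).2.1, pos (ops r).2.2.1, (ops r).2.2.2))

/-- A letter applied to a code. -/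
def step (r m : ℕ) : ℕ :=
  let o := opsN.getD r ((0, 0, false), (0, 0, false))
  rowAdd o.1.1 o.1.2.1 o.1.2.2 (rowAdd o.2.1 o.2.2.1 o.2.2.2 m)

/-- The code of the identity. -/
def oneCode : ℕ := 9241421688590303745

/-- The code of a word. -/
def code : List ℕ → ℕ
  | [] => oneCode
  | r :: w => force (code w) fun m => step r m

/-- The root elements. -/
noncomputable def g (r : ℕ) : OG := if r < 24 then root F3 r 1 else 1

/-- A word. -/
noncomputable def ev (w : List ℕ) : OG := (w.map g).prod

@[simp] theorem ev_nil : ev [] = 1 := rfl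

theorem ev_cons (r : ℕ) (w : List ℕ) : ev (r :: w) = g r * ev w := by simp [ev]

theorem ev_append (v w : List ℕ) : ev (v ++ w) = ev v * ev w := by simp [ev]

/-- The letters of a word are in range. -/
def inRange (w : List ℕ) : Bool := w.all fun r => decide (r < 24)

theorem inRange_append (v w : List ℕ) : inRange (v ++ w) = (inRange v && inRange w) := by
  simp [inRange, List.all_append]

theorem mat_oneCode : Fit oneCode ∧ mat oneCode = 1 := by
  have hA : planeA oneCode = 9241421688590303745 := by decide +kernel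
  have hB : planeB oneCode = 0 := by decide +kernel
  refine ⟨⟨by rw [hA]; norm_num, by rw [hB]; norm_num, fun k h => ?_⟩, ?_⟩
  · rw [hB] at h
    simp at h
  · decide +kernel

theorem code_spec : ∀ w : List ℕ, inRange w = true → Fit (code w) ∧ mat (code w) = ogVal (ev w) := by
  intro w
  induction w with
  | nil => intro _; exact ⟨mat_oneCode.1, mat_oneCode.2.trans ogVal_one.symm⟩
  | cons r w ih =>
    intro h
    simp only [inRange, List.all_cons, Bool.and_eq_true, decide_eq_true_eq] at h
    obtain ⟨hr, hw⟩ := h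
    obtain ⟨h1, h2⟩ := ih (by simpa [inRange] using hw)
    rw [code, force_eq, step, List.getD_eq_getElem _ _ (by simp [opsN, hr] : r < opsN.length)]
    simp only [opsN, List.getElem_map, List.getElem_range]
    obtain ⟨h3, h4⟩ := rowAdd_spec h1 (ops r).2.1 (ops r).2.2.1 (ops r).2.2.2
    obtain ⟨h5, h6⟩ := rowAdd_spec h3 (ops r).1.1 (ops r).1.2.1 (ops r).1.2.2
    refine ⟨h5, ?_⟩
    rw [h6, h4, h2, ev_cons, ogVal_mul, ← Matrix.mul_assoc, trans_ops ⟨r, hr⟩, g, if_pos hr,
      IsoD4.root_val hr, one_smul]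

theorem ev_eq_of_code {v w : List ℕ} (hv : inRange v = true) (hw : inRange w = true)
    (h : Nat.beq (code v) (code w) = true) : ev v = ev w := by
  refine ogVal_ext ?_
  rw [← (code_spec v hv).2, ← (code_spec w hw).2, Nat.eq_of_beq_eq_true h]

/-- The group. -/
abbrev P8 : Type := POmega F3 ⇑(qfPlus 4 F3)

theorem g_mem (r : ℕ) : g r ∈ Omega F3 ⇑(qfPlus 4 F3) := by
  unfold g
  split_ifs with hr
  · rw [← IsoD4.range_eq_omega]
    exact ⟨_, IsoD4.coverHom_X F3 (r := r) (by rw [IsoD4.nroots_D4]; exact hr) 1⟩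
  · exact one_mem _

/-- A root element in the simple group. -/
noncomputable def gP (r : ℕ) : P8 := QuotientGroup.mk' _ ⟨g r, g_mem r⟩

/-- A word in the simple group. -/
noncomputable def evP (w : List ℕ) : P8 := (w.map gP).prod

theorem evP_append (v w : List ℕ) : evP (v ++ w) = evP v * evP w := by simp [evP]

theorem ev_mem (w : List ℕ) : ev w ∈ Omega F3 ⇑(qfPlus 4 F3) :=
  list_prod_mem fun x hx => by
    obtain ⟨r, -, rfl⟩ := List.mem_map.1 hx
    exact g_mem r

theorem evP_eq (w : List ℕ) : evP w = QuotientGroup.mk' _ ⟨ev w, ev_mem w⟩ := by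
  induction w with
  | nil => exact (map_one _).symm
  | cons r w ih =>
    rw [show evP (r :: w) = gP r * evP w by simp [evP], ih, gP, ← map_mul]
    exact congrArg _ (Subtype.ext (ev_cons r w).symm)

theorem evP_congr {v w : List ℕ} (h : ev v = ev w) : evP v = evP w := by
  rw [evP_eq, evP_eq]
  exact congrArg _ (Subtype.ext h)

end Cfsg.Agent.Fus.D4Classes
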